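import Groth.Prelude.Def_CurvBase
import Groth.Agent.CurveCoh.Cover
import Groth.Agent.ZetaLib.Points
import Mathlib.RingTheory.RamificationInertia.Ramification
import Mathlib.RingTheory.Localization.AtPrime.Basic
import Mathlib.RingTheory.Unramified.Locus

/-!
# Closed points of an affine open as maximal ideals, and ramification indices there
-/

universe u

open CategoryTheory AlgebraicGeometry TopologicalSpace
open Groth.Agent.CurveCoh (kMap)

set_option autoImplicit false
set_option linter.style.haveILetI false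

attribute [local instance] Curv2.resAlgebra

namespace Groth.Agent.HurwitzLib

variable (k : Type u) [Field k] {X : Scheme.{u}} [X.Over (Spec (CommRingCat.of k))]
  {U : X.Opens} (hU : IsAffineOpen U) {x : X} (hx : x ∈ U)

lemma eval_kMap (c : k) : X.evaluation U x hx (kMap k U c) = Curv2.resMap k X x c := by
  show X.residue x (X.presheaf.germ U x hx (X.presheaf.map _ _)) = _
  rw [TopCat.Presheaf.germ_res_apply']
  rfl

include hU in
lemma ker_evaluation : RingHom.ker (X.evaluation U x hx).hom = (hU.primeIdealOf ⟨x, hx⟩).asIdeal := by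
  letI := X.presheaf.algebra_section_stalk ⟨x, hx⟩
  haveI := hU.isLocalization_stalk ⟨x, hx⟩
  ext a
  rw [RingHom.mem_ker]
  show IsLocalRing.residue _ (algebraMap Γ(X, U) (X.presheaf.stalk x) a) = 0 ↔ _
  rw [IsLocalRing.residue_eq_zero_iff]
  exact IsLocalization.AtPrime.to_map_mem_maximal_iff (X.presheaf.stalk x) _ a

include hU in
lemma isMaximal_primeIdealOf (hc : IsClosed ({x} : Set X)) : (hU.primeIdealOf ⟨x, hx⟩).asIdeal.IsMaximal := by
  rw [← PrimeSpectrum.isClosed_singleton_iff_isMaximal]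
  have : ({hU.primeIdealOf ⟨x, hx⟩} : Set (Spec Γ(X, U))) = hU.fromSpec ⁻¹' {x} := by
    ext q
    show q = hU.primeIdealOf ⟨x, hx⟩ ↔ hU.fromSpec q = x
    constructor
    · rintro rfl; exact hU.fromSpec_primeIdealOf ⟨x, hx⟩
    · intro h
      exact hU.fromSpec.isOpenEmbedding.injective (h.trans (hU.fromSpec_primeIdealOf ⟨x, hx⟩).symm)
  exact this ▸ hc.preimage hU.fromSpec.continuous

include hU in
lemma surjective_evaluation (hc : IsClosed ({x} : Set X)) : Function.Surjective (X.evaluation U x hx) := by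
  letI := X.presheaf.algebra_section_stalk ⟨x, hx⟩
  haveI := hU.isLocalization_stalk ⟨x, hx⟩
  haveI := isMaximal_primeIdealOf hU hx hc
  intro z
  obtain ⟨w, rfl⟩ := IsLocalRing.residue_surjective z
  obtain ⟨a, s, rfl⟩ := IsLocalization.exists_mk'_eq (hU.primeIdealOf ⟨x, hx⟩).asIdeal.primeCompl w
  obtain ⟨t, p, hp, htp⟩ := (isMaximal_primeIdealOf hU hx hc).exists_inv s.2
  refine ⟨t * a, ?_⟩
  show IsLocalRing.residue _ (algebraMap Γ(X, U) (X.presheaf.stalk x) (t * a)) = _
  rw [← sub_eq_zero, ← map_sub, IsLocalRing.residue_eq_zero_iff]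
  have hsu := IsLocalization.map_units (X.presheaf.stalk x) s
  rw [← Ideal.mul_unit_mem_iff_mem _ hsu, sub_mul, IsLocalization.mk'_spec, ← map_mul, ← map_sub,
    IsLocalization.AtPrime.to_map_mem_maximal_iff (X.presheaf.stalk x) (hU.primeIdealOf ⟨x, hx⟩).asIdeal]
  rw [show t * a * (s : Γ(X, U)) - a = -(p * a) by linear_combination a * htp]
  exact neg_mem (Ideal.mul_mem_right _ _ hp)

include hU in
/-- The residue field at a closed point is the quotient of the sections by the maximal ideal. -/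
theorem residue_quotient [LocallyOfFiniteType (X ↘ Spec (CommRingCat.of k))] (hc : IsClosed ({x} : Set X))
    [Algebra k Γ(X, U)] (halg : algebraMap k Γ(X, U) = kMap k U) :
    Module.Finite k (Γ(X, U) ⧸ (hU.primeIdealOf ⟨x, hx⟩).asIdeal) ∧
      Module.finrank k (Γ(X, U) ⧸ (hU.primeIdealOf ⟨x, hx⟩).asIdeal) = Module.finrank k (X.residueField x) := by
  let ev : Γ(X, U) →ₐ[k] X.residueField x :=
    { (X.evaluation U x hx).hom with
      commutes' := fun c => by rw [halg]; exact eval_kMap k hx c }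
  let e := (Ideal.quotientEquivAlgOfEq k (ker_evaluation hU hx).symm).trans
    (Ideal.quotientKerAlgEquivOfSurjective (f := ev) (surjective_evaluation hU hx hc))
  haveI : Module.Finite k (X.residueField x) :=
    (ZetaLib.isClosed_iff_finite (X ↘ Spec (CommRingCat.of k)) x).1 hc
  exact ⟨Module.Finite.equiv e.symm.toLinearEquiv, e.toLinearEquiv.finrank_eq⟩

variable {Y : Scheme.{u}} (f : X ⟶ Y) {V : Y.Opens} (hV : IsAffineOpen V)

include hV in
/-- The ramification index and tameness computed on an affine open. -/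
theorem ramification_at (hW : IsAffineOpen (f ⁻¹ᵁ V)) {x : X} (hx : x ∈ f ⁻¹ᵁ V) (hc : IsClosed ({x} : Set X))
    (hc' : IsClosed ({f x} : Set Y))
    [Algebra Γ(Y, V) Γ(X, f ⁻¹ᵁ V)] (halg : algebraMap Γ(Y, V) Γ(X, f ⁻¹ᵁ V) = (f.app V).hom)
    [IsDedekindDomain Γ(X, f ⁻¹ᵁ V)] [IsDomain (X.presheaf.stalk x)]
    [IsDiscreteValuationRing (X.presheaf.stalk x)]
    (p : Ideal Γ(Y, V)) (hp : p = (hV.primeIdealOf ⟨f x, hx⟩).asIdeal)
    (P : Ideal Γ(X, f ⁻¹ᵁ V)) (hP : P = (hW.primeIdealOf ⟨x, hx⟩).asIdeal)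
    (hpB : p.map (algebraMap Γ(Y, V) Γ(X, f ⁻¹ᵁ V)) ≠ ⊥) :
    P.LiesOver p ∧
    letI := (f.stalkMap x).hom.toAlgebra
    Ideal.ramificationIdx (IsLocalRing.maximalIdeal (X.presheaf.stalk x)) (Y.presheaf.stalk (f x)) =
        P.ramificationIdx Γ(Y, V) ∧
      (letI := (f.residueFieldMap x).hom.toAlgebra
       (Algebra.IsSeparable (Y.residueField (f x)) (X.residueField x) ∧
          ((P.ramificationIdx Γ(Y, V) : ℕ) : Y.residueField (f x)) ≠ 0) ↔
       (∀ [P.LiesOver p], Algebra.IsSeparable (Γ(Y, V) ⧸ p) (Γ(X, f ⁻¹ᵁ V) ⧸ P) ∧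
          ((P.ramificationIdx Γ(Y, V) : ℕ) : Γ(Y, V) ⧸ p) ≠ 0)) := by
  classical
  haveI : p.IsMaximal := hp ▸ isMaximal_primeIdealOf hV hx hc'
  haveI : P.IsMaximal := hP ▸ isMaximal_primeIdealOf hW hx hc
  have hgerm : ∀ a : Γ(Y, V), f.stalkMap x (Y.presheaf.germ V (f x) hx a) =
      X.presheaf.germ (f ⁻¹ᵁ V) x hx (algebraMap Γ(Y, V) Γ(X, f ⁻¹ᵁ V) a) := fun a => by
    rw [halg]; exact Scheme.Hom.germ_stalkMap_apply f V x hx a
  have hev : ∀ a : Γ(Y, V), f.residueFieldMap x (Y.evaluation V (f x) hx a) =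
      X.evaluation (f ⁻¹ᵁ V) x hx (algebraMap Γ(Y, V) Γ(X, f ⁻¹ᵁ V) a) := fun a => by
    rw [halg]; exact Scheme.evaluation_naturality_apply f x hx a
  have hlo : P.LiesOver p := by
    refine ⟨?_⟩
    ext a
    rw [Ideal.mem_comap, hP, ← ker_evaluation hW hx, hp, ← ker_evaluation hV hx, RingHom.mem_ker, RingHom.mem_ker]
    rw [← hev a, map_eq_zero_iff _ (f.residueFieldMap x).hom.injective]
  haveI := hlo
  refine ⟨hlo, ?_⟩
  letI := (f.stalkMap x).hom.toAlgebra
  refine ⟨?_, ?_⟩
  · -- both are the exponent of the maximal ideal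
    obtain ⟨Q, hPQ, hfac⟩ := Ideal.eq_prime_pow_mul_coprime hpB P
    rw [← Ideal.IsDedekindDomain.ramificationIdx_eq_normalizedFactors_count p P hpB] at hfac
    set n := P.ramificationIdx Γ(Y, V)
    letI := Y.presheaf.algebra_section_stalk (⟨f x, hx⟩ : V)
    letI := X.presheaf.algebra_section_stalk (⟨x, hx⟩ : (f ⁻¹ᵁ V : X.Opens))
    haveI : IsLocalization.AtPrime (Y.presheaf.stalk (f x)) p := hp ▸ hV.isLocalization_stalk ⟨f x, hx⟩
    haveI : IsLocalization.AtPrime (X.presheaf.stalk x) P := hP ▸ hW.isLocalization_stalk ⟨x, hx⟩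
    have hQ : ¬ Q ≤ P := fun h => Ideal.IsMaximal.ne_top ‹_› (by rwa [sup_of_le_left h] at hPQ)
    have hm : (IsLocalRing.maximalIdeal (Y.presheaf.stalk (f x))).map
        (algebraMap (Y.presheaf.stalk (f x)) (X.presheaf.stalk x)) =
        IsLocalRing.maximalIdeal (X.presheaf.stalk x) ^ n := by
      rw [← IsLocalization.AtPrime.map_eq_maximalIdeal p (Y.presheaf.stalk (f x)), Ideal.map_map]
      have hcomp : (algebraMap (Y.presheaf.stalk (f x)) (X.presheaf.stalk x)).comp
          (algebraMap Γ(Y, V) (Y.presheaf.stalk (f x))) =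
          (algebraMap Γ(X, f ⁻¹ᵁ V) (X.presheaf.stalk x)).comp (algebraMap Γ(Y, V) Γ(X, f ⁻¹ᵁ V)) :=
        RingHom.ext hgerm
      rw [hcomp, ← Ideal.map_map, hfac, Ideal.map_mul, Ideal.map_pow,
        IsLocalization.AtPrime.map_eq_top_of_not_le (X.presheaf.stalk x) hQ, Ideal.mul_top,
        IsLocalization.AtPrime.map_eq_maximalIdeal P (X.presheaf.stalk x)]
    haveI : (IsLocalRing.maximalIdeal (X.presheaf.stalk x)).LiesOver
        (IsLocalRing.maximalIdeal (Y.presheaf.stalk (f x))) :=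
      ⟨(((IsLocalRing.local_hom_TFAE (f.stalkMap x).hom).out 0 4 rfl rfl).mp
        (inferInstanceAs (IsLocalHom (f.stalkMap x).hom))).symm⟩
    have h0 : IsLocalRing.maximalIdeal (X.presheaf.stalk x) ≠ ⊥ := IsDiscreteValuationRing.not_a_field _
    have hn0 : (IsLocalRing.maximalIdeal (Y.presheaf.stalk (f x))).map
        (algebraMap (Y.presheaf.stalk (f x)) (X.presheaf.stalk x)) ≠ ⊥ := hm ▸ pow_ne_zero _ h0
    rw [Ideal.IsDedekindDomain.ramificationIdx_eq_normalizedFactors_count _ _ hn0, hm,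
      UniqueFactorizationMonoid.normalizedFactors_pow,
      UniqueFactorizationMonoid.normalizedFactors_irreducible
        (Ideal.prime_of_isPrime h0 inferInstance).irreducible, normalize_eq, Multiset.count_nsmul,
      Multiset.count_singleton_self, mul_one]
  · letI := (f.residueFieldMap x).hom.toAlgebra
    letI : Field (Γ(Y, V) ⧸ p) := Ideal.Quotient.field _
    let eY : (Γ(Y, V) ⧸ p) ≃+* Y.residueField (f x) :=
      (Ideal.quotEquivOfEq (hp.trans (ker_evaluation hV hx).symm)).trans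
        (RingHom.quotientKerEquivOfSurjective (surjective_evaluation hV hx hc'))
    let eX : (Γ(X, f ⁻¹ᵁ V) ⧸ P) ≃+* X.residueField x :=
      (Ideal.quotEquivOfEq (hP.trans (ker_evaluation hW hx).symm)).trans
        (RingHom.quotientKerEquivOfSurjective (surjective_evaluation hW hx hc))
    have hcomm : ∀ a, eX (algebraMap (Γ(Y, V) ⧸ p) (Γ(X, f ⁻¹ᵁ V) ⧸ P) a) = f.residueFieldMap x (eY a) := by
      intro a
      obtain ⟨a, rfl⟩ := Ideal.Quotient.mk_surjective a
      exact (hev a).symm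
    have hcast : ∀ m : ℕ, ((m : Γ(Y, V) ⧸ p) ≠ 0) ↔ ((m : Y.residueField (f x)) ≠ 0) := fun m => by
      rw [← map_natCast eY m, map_ne_zero_iff _ eY.injective]
    have hsep : Algebra.IsSeparable (Y.residueField (f x)) (X.residueField x) ↔
        Algebra.IsSeparable (Γ(Y, V) ⧸ p) (Γ(X, f ⁻¹ᵁ V) ⧸ P) := by
      constructor <;> intro h
      · exact Algebra.IsSeparable.of_equiv_equiv eY.symm eX.symm
          (RingHom.ext fun a => eX.injective (by
            show eX (algebraMap _ _ (eY.symm a)) = eX (eX.symm (f.residueFieldMap x a))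
            rw [hcomm, RingEquiv.apply_symm_apply, RingEquiv.apply_symm_apply]))
      · exact Algebra.IsSeparable.of_equiv_equiv eY eX (RingHom.ext fun a => (hcomm a).symm)
    rw [hsep, ← hcast]
    exact ⟨fun h => h, fun h => h⟩

end Groth.Agent.HurwitzLib
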