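import Groth.Agent.S2219
import Mathlib.RingTheory.DedekindDomain.Different
import Mathlib.RingTheory.Trace.Quotient
import Mathlib.RingTheory.RamificationInertia.Ramification
import Mathlib.RingTheory.Localization.AtPrime.Basic

/-!
# The exponent of the different and tame ramification
-/

set_option autoImplicit false
set_option linter.style.haveILetI false

universe u

open UniqueFactorizationMonoid
open scoped nonZeroDivisors
attribute [local instance] FractionRing.liftAlgebra FractionRing.isScalarTower_liftAlgebra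

namespace Groth.Agent.HurwitzLib

variable {A B : Type u} [CommRing A] [IsDedekindDomain A] [CommRing B] [IsDedekindDomain B]
  [Algebra A B] [Module.Finite A B] [Module.IsTorsionFree A B]
  [Algebra.IsSeparable (FractionRing A) (FractionRing B)]

set_option maxHeartbeats 1600000 in
theorem pow_dvd_differentIdeal_iff_trace {p : Ideal A} [p.IsMaximal] (hp : p ≠ ⊥) (P Q : Ideal B) {e : ℕ}
    (hP : P ^ e * Q = p.map (algebraMap A B)) :
    P ^ e ∣ differentIdeal A B ↔ ∀ x ∈ Q, Algebra.intTrace A B x ∈ p := by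
  let K := FractionRing A
  let L := FractionRing B
  haveI : IsLocalization (Algebra.algebraMapSubmonoid B A⁰) L := IsIntegralClosure.isLocalization _ K _ _
  haveI : FiniteDimensional K L := .of_isLocalization A B A⁰
  haveI : IsIntegralClosure B A L := IsIntegralClosure.of_isIntegrallyClosed B A L
  have hp' := (Ideal.map_eq_bot_iff_of_injective
    (FaithfulSMul.algebraMap_injective A B)).not.mpr hp
  have hPbot : P ^ e ≠ ⊥ := fun h => hp' (by rw [← hP, h, Ideal.bot_mul])
  have hQbot : Q ≠ ⊥ := fun h => hp' (by rw [← hP, h, Ideal.mul_bot])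
  have hinv : ((P ^ e : Ideal B) : FractionalIdeal B⁰ L)⁻¹ = Q / p.map (algebraMap A B) := by
    apply inv_involutive.injective
    simp only [← hP, FractionalIdeal.coeIdeal_mul, inv_div, mul_div_assoc]
    rw [div_self (by simpa using hQbot), mul_one, inv_inv]
  rw [Ideal.dvd_iff_le, differentialIdeal_le_iff (K := K) (L := L) hPbot, Submodule.map_le_iff_le_comap, hinv]
  have hmapne : ((p.map (algebraMap A B) : Ideal B) : FractionalIdeal B⁰ L) ≠ 0 := by simpa using hp'
  constructor
  · intro h z hz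
    -- divide by an element of maximal valuation
    by_contra hz'
    have hle : ∀ r : K, (∀ y ∈ p, ∃ a : A, algebraMap A K a = r * algebraMap A K y) →
        ∃ a : A, algebraMap A K a = r * algebraMap A K (Algebra.intTrace A B z) := by
      intro r hr
      have hm : algebraMap K L r * algebraMap B L z ∈
          ((Q : FractionalIdeal B⁰ L) / (p.map (algebraMap A B) : Ideal B)) := by
        rw [FractionalIdeal.mem_div_iff_of_ne_zero hmapne]
        intro y₀ hy₀
        obtain ⟨y', hy', rfl⟩ := (FractionalIdeal.mem_coeIdeal _).1 hy₀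
        have hgen : ∀ y ∈ p.map (algebraMap A B), ∃ w : B, algebraMap B L w = algebraMap K L r * algebraMap B L y := by
          intro y hy
          refine Submodule.span_induction ?_ ⟨0, by simp⟩ (fun a b _ _ ⟨w, hw⟩ ⟨v, hv⟩ => ⟨w + v, by
            rw [map_add, hw, hv, map_add, mul_add]⟩) (fun c a _ ⟨w, hw⟩ => ⟨c * w, by
            rw [map_mul, hw, smul_eq_mul, map_mul, mul_left_comm]⟩) hy
          rintro _ ⟨a, ha, rfl⟩
          obtain ⟨b, hb⟩ := hr a ha
          refine ⟨algebraMap A B b, ?_⟩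
          rw [← IsScalarTower.algebraMap_apply, IsScalarTower.algebraMap_apply A K L, hb, map_mul,
            ← IsScalarTower.algebraMap_apply, IsScalarTower.algebraMap_apply A B L]
        obtain ⟨w, hw⟩ := hgen y' hy'
        refine (FractionalIdeal.mem_coeIdeal _).2 ⟨w * z, Ideal.mul_mem_left _ _ hz, ?_⟩
        rw [map_mul, hw]; ring
      obtain ⟨a, ha⟩ := Submodule.mem_one.1 (Submodule.mem_comap.1 (h hm))
      refine ⟨a, ha.trans ?_⟩
      show Algebra.trace K L (algebraMap K L r * algebraMap B L z) = _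
      rw [← Algebra.smul_def, map_smul, smul_eq_mul, Algebra.algebraMap_intTrace (L := L)]
    -- an element of the inverse of `p` outside `A`
    obtain ⟨r, hr, hr'⟩ := FractionalIdeal.exists_notMem_one_of_ne_bot (K := K) hp (Ideal.IsMaximal.ne_top ‹_›)
    have hr1 : ∀ y ∈ p, ∃ a : A, algebraMap A K a = r * algebraMap A K y := fun y hy =>
      (FractionalIdeal.mem_one_iff _).1 ((FractionalIdeal.mem_inv_iff (by simpa using hp)).1 hr _
        ((FractionalIdeal.mem_coeIdeal _).2 ⟨y, hy, rfl⟩))
    obtain ⟨a, ha⟩ := hle r hr1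
    obtain ⟨u, v, hv, hu⟩ := (‹p.IsMaximal›).exists_inv hz'
    obtain ⟨b, hb⟩ := hr1 v hv
    apply hr'
    refine (FractionalIdeal.mem_one_iff _).2 ⟨u * a + b, ?_⟩
    rw [map_add, map_mul, ha, hb]
    have := congrArg (algebraMap A K) hu
    rw [map_add, map_mul, map_one] at this
    linear_combination r * this
  · intro h x hx
    rw [Submodule.restrictScalars_mem, FractionalIdeal.mem_coe,
      FractionalIdeal.mem_div_iff_of_ne_zero hmapne] at hx
    rw [Submodule.mem_comap, LinearMap.coe_restrictScalars, ← FractionalIdeal.coe_one,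
      ← div_self (G₀ := FractionalIdeal A⁰ K) (a := p) (by simpa using hp),
      FractionalIdeal.mem_coe, FractionalIdeal.mem_div_iff_of_ne_zero (by simpa using hp)]
    simp only [FractionalIdeal.mem_coeIdeal, forall_exists_index, and_imp,
      forall_apply_eq_imp_iff₂] at hx
    intro y hy'
    obtain ⟨y, hy, rfl : algebraMap A K _ = _⟩ := (FractionalIdeal.mem_coeIdeal _).mp hy'
    obtain ⟨z, hz, hz'⟩ := hx _ (Ideal.mem_map_of_mem _ hy)
    have : Algebra.trace K L (algebraMap B L z) ∈ (p : FractionalIdeal A⁰ K) := by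
      rw [← Algebra.algebraMap_intTrace (A := A)]
      exact ⟨Algebra.intTrace A B z, h z hz, rfl⟩
    rwa [mul_comm, ← smul_eq_mul, ← map_smul, Algebra.smul_def, mul_comm,
      ← IsScalarTower.algebraMap_apply, IsScalarTower.algebraMap_apply A B L, ← hz']

omit [IsDedekindDomain A] [Module.Finite A B] [Module.IsTorsionFree A B]
  [Algebra.IsSeparable (FractionRing A) (FractionRing B)] in
/-- The length of `B/P^n` as a module over itself. -/
lemma length_quot_pow (P : Ideal B) [P.IsMaximal] (hP : P ≠ ⊥) (n : ℕ) :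
    Module.length (B ⧸ P ^ n) (B ⧸ P ^ n) = n := by
  haveI := IsLocalization.AtPrime.isDiscreteValuationRing_of_dedekind_domain B hP (Localization.AtPrime P)
  let Bp := Localization.AtPrime P
  let e := IsLocalization.AtPrime.equivQuotMaximalIdealPow P Bp n
  have hsurj : Function.Surjective (algebraMap B (Bp ⧸ IsLocalRing.maximalIdeal Bp ^ n)) := fun z => by
    obtain ⟨w, rfl⟩ := e.surjective z
    obtain ⟨b, rfl⟩ := Ideal.Quotient.mk_surjective w
    exact ⟨b, (e.commutes b).symm⟩
  rw [← Module.length_eq_of_surjective (S := B) (R := B ⧸ P ^ n) (M := B ⧸ P ^ n) Ideal.Quotient.mk_surjective,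
    e.toLinearEquiv.length_eq,
    Module.length_eq_of_surjective (S := B) (R := Bp ⧸ IsLocalRing.maximalIdeal Bp ^ n)
      (M := Bp ⧸ IsLocalRing.maximalIdeal Bp ^ n) hsurj,
    ← Module.length_eq_of_surjective (S := Bp) (R := Bp ⧸ IsLocalRing.maximalIdeal Bp ^ n)
      (M := Bp ⧸ IsLocalRing.maximalIdeal Bp ^ n) Ideal.Quotient.mk_surjective]
  exact IsDiscreteValuationRing.length_quotient_pow_maximalIdeal _ n

set_option maxHeartbeats 1600000 in
/-- Below the ramification index the different stops exactly for tame primes. -/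
theorem pow_dvd_differentIdeal_iff {p : Ideal A} [p.IsMaximal] (hp : p ≠ ⊥) (P : Ideal B) [P.IsMaximal]
    [P.LiesOver p] :
    P ^ P.ramificationIdx A ∣ differentIdeal A B ↔
      ¬ (Algebra.IsSeparable (A ⧸ p) (B ⧸ P) ∧ ((P.ramificationIdx A : ℕ) : A ⧸ p) ≠ 0) := by
  classical
  letI : Field (A ⧸ p) := Ideal.Quotient.field _
  have hp' := (Ideal.map_eq_bot_iff_of_injective
    (FaithfulSMul.algebraMap_injective A B)).not.mpr hp
  have hP0 : P ≠ ⊥ := ne_bot_of_le_ne_bot hp' (Ideal.map_le_of_le_comap (P.over_def p).le)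
  obtain ⟨Q, hPQ, hfac⟩ := Ideal.eq_prime_pow_mul_coprime hp' P
  rw [← Ideal.IsDedekindDomain.ramificationIdx_eq_normalizedFactors_count p P hp'] at hfac
  have he0 : P.ramificationIdx A ≠ 0 := (Ideal.ramificationIdx_pos P A).ne'
  set n := P.ramificationIdx A with hn
  rw [pow_dvd_differentIdeal_iff_trace hp P Q hfac.symm]
  have hle : p.map (algebraMap A B) ≤ P ^ n := hfac ▸ Ideal.mul_le_left
  letI : Algebra (A ⧸ p) (B ⧸ P ^ n) :=
    Ideal.Quotient.algebraQuotientOfLEComap (Ideal.map_le_iff_le_comap.mp hle)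
  letI : Algebra (A ⧸ p) (B ⧸ Q) :=
    Ideal.Quotient.algebraQuotientOfLEComap (Ideal.map_le_iff_le_comap.mp (hfac ▸ Ideal.mul_le_right))
  haveI : IsScalarTower A (A ⧸ p) (B ⧸ P ^ n) := .of_algebraMap_eq' rfl
  haveI : IsScalarTower A (A ⧸ p) (B ⧸ Q) := .of_algebraMap_eq' rfl
  haveI : Module.Finite (A ⧸ p) (B ⧸ P ^ n) := .of_restrictScalars_finite A _ _
  haveI : Module.Finite (A ⧸ p) (B ⧸ Q) := .of_restrictScalars_finite A _ _
  have hcop : IsCoprime (P ^ n) Q := (Ideal.isCoprime_iff_sup_eq.mpr hPQ).pow_left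
  let e : (B ⧸ p.map (algebraMap A B)) ≃ₐ[A ⧸ p] ((B ⧸ P ^ n) × B ⧸ Q) :=
    { __ := (Ideal.quotEquivOfEq hfac).trans (Ideal.quotientMulEquivQuotientProd (P ^ n) Q hcop),
      commutes' := Quotient.ind fun _ ↦ rfl }
  have htr : ∀ x ∈ Q, Ideal.Quotient.mk p (Algebra.intTrace A B x) =
      Algebra.trace (A ⧸ p) (B ⧸ P ^ n) (Ideal.Quotient.mk _ x) := by
    intro x hx
    have hx1 : (e (Ideal.Quotient.mk _ x)).1 = Ideal.Quotient.mk _ x := by simp [e]
    have hx2 : (e (Ideal.Quotient.mk _ x)).2 = 0 := by simpa [e, Ideal.Quotient.eq_zero_iff_mem]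
    rw [← Algebra.trace_quotient_eq_of_isDedekindDomain, ← Algebra.trace_eq_of_algEquiv e,
      Algebra.trace_prod_apply, hx1, hx2, map_zero, add_zero]
  have hsurj : ∀ c : B ⧸ P ^ n, ∃ x ∈ Q, Ideal.Quotient.mk _ x = c := by
    intro c
    obtain ⟨b, rfl⟩ := Ideal.Quotient.mk_surjective c
    obtain ⟨u, hu, v, hv, huv⟩ := Submodule.mem_sup.1
      ((Ideal.eq_top_iff_one _).1 (Ideal.isCoprime_iff_sup_eq.1 hcop))
    refine ⟨v * b, Q.mul_mem_right _ hv, Ideal.Quotient.eq.2 ?_⟩
    rw [show v * b - b = -(u * b) by linear_combination b * huv]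
    exact neg_mem (Ideal.mul_mem_right _ _ hu)
  have hzero : (∀ x ∈ Q, Algebra.intTrace A B x ∈ p) ↔ Algebra.trace (A ⧸ p) (B ⧸ P ^ n) = 0 := by
    constructor
    · intro h
      refine LinearMap.ext fun c => ?_
      obtain ⟨x, hx, rfl⟩ := hsurj c
      rw [← htr x hx, LinearMap.zero_apply, Ideal.Quotient.eq_zero_iff_mem]
      exact h x hx
    · intro h x hx
      rw [← Ideal.Quotient.eq_zero_iff_mem, htr x hx, h, LinearMap.zero_apply]
  haveI : Nontrivial (B ⧸ P ^ n) := Ideal.Quotient.nontrivial_iff.mpr fun h =>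
    Ideal.IsMaximal.ne_top ‹_› (top_le_iff.mp (h ▸ Ideal.pow_le_self he0))
  let eloc := (IsLocalization.AtPrime.equivQuotMaximalIdealPow P (Localization.AtPrime P) n).toRingEquiv
  haveI : IsLocalRing (B ⧸ P ^ n) := by
    haveI : Nontrivial (Localization.AtPrime P ⧸ IsLocalRing.maximalIdeal (Localization.AtPrime P) ^ n) :=
      eloc.symm.toEquiv.nontrivial
    haveI : IsLocalRing (Localization.AtPrime P ⧸ IsLocalRing.maximalIdeal (Localization.AtPrime P) ^ n) :=
      IsLocalRing.of_surjective' (Ideal.Quotient.mk _) Ideal.Quotient.mk_surjective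
    exact IsLocalRing.of_surjective' eloc.symm.toRingHom eloc.symm.surjective
  have hmax : IsLocalRing.maximalIdeal (B ⧸ P ^ n) = P.map (Ideal.Quotient.mk _) := by
    refine (IsLocalRing.eq_maximalIdeal ?_).symm
    exact Ideal.IsMaximal.map_of_surjective_of_ker_le Ideal.Quotient.mk_surjective
      (by rw [Ideal.mk_ker]; exact Ideal.pow_le_self he0)
  let er : (B ⧸ P) ≃+* IsLocalRing.ResidueField (B ⧸ P ^ n) :=
    (DoubleQuot.quotQuotEquivQuotOfLE (Ideal.pow_le_self he0 : P ^ n ≤ P)).symm.trans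
      (Ideal.quotEquivOfEq hmax.symm)
  have hsep : Algebra.IsSeparable (A ⧸ p) (B ⧸ P) ↔
      Algebra.IsSeparable (A ⧸ p) (IsLocalRing.ResidueField (B ⧸ P ^ n)) := by
    have hcomm : ∀ a : A ⧸ p, er (algebraMap (A ⧸ p) (B ⧸ P) a) = algebraMap _ _ a := by
      intro a
      obtain ⟨a, rfl⟩ := Ideal.Quotient.mk_surjective a
      rfl
    constructor <;> intro h
    · exact Algebra.IsSeparable.of_equiv_equiv (RingEquiv.refl (A ⧸ p)) er
        (RingHom.ext fun a => (hcomm a).symm)
    · exact Algebra.IsSeparable.of_equiv_equiv (RingEquiv.refl (A ⧸ p)) er.symm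
        (RingHom.ext fun a => er.injective ((hcomm a).trans (er.apply_symm_apply _).symm))
  have h2 := Groth.Agent.S2219.result (A ⧸ p) (B ⧸ P ^ n)
  rw [length_quot_pow P hP0, ENat.toNat_natCast, ← hsep] at h2
  rw [hzero, ← not_iff_not, not_not]
  refine h2.trans (and_congr_right fun _ => ?_)
  constructor
  · intro h h0
    obtain ⟨c, hc⟩ := CharP.exists (A ⧸ p)
    have hd : c ∣ n := (CharP.cast_eq_zero_iff (A ⧸ p) c n).mp h0
    rcases CharP.char_is_prime_or_zero (A ⧸ p) c with hcp | rfl
    · exact h c hcp hc hd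
    · exact he0 (zero_dvd_iff.mp hd)
  · intro h c _ hc hd
    exact h ((CharP.cast_eq_zero_iff (A ⧸ p) c n).mpr hd)

/-- The exponent of the different is at least `e - 1`. -/
theorem sub_one_le_count {p : Ideal A} [p.IsMaximal] (hp : p ≠ ⊥) (P : Ideal B) [P.IsMaximal]
    [P.LiesOver p] [DecidableEq (Ideal B)] :
    P.ramificationIdx A - 1 ≤ (normalizedFactors (differentIdeal A B)).count P ∧
      ((normalizedFactors (differentIdeal A B)).count P = P.ramificationIdx A - 1 ↔
        (Algebra.IsSeparable (A ⧸ p) (B ⧸ P) ∧ ((P.ramificationIdx A : ℕ) : A ⧸ p) ≠ 0)) := by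
  have hp' := (Ideal.map_eq_bot_iff_of_injective
    (FaithfulSMul.algebraMap_injective A B)).not.mpr hp
  have hP0 : P ≠ ⊥ := ne_bot_of_le_ne_bot hp' (Ideal.map_le_of_le_comap (P.over_def p).le)
  have he0 : P.ramificationIdx A ≠ 0 := (Ideal.ramificationIdx_pos P A).ne'
  have hdvd : ∀ m : ℕ, P ^ m ∣ differentIdeal A B ↔ m ≤ (normalizedFactors (differentIdeal A B)).count P := by
    intro m
    rw [pow_dvd_iff_le_emultiplicity,
      emultiplicity_eq_count_normalizedFactors (Ideal.prime_of_isPrime hP0 inferInstance).irreducible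
        differentIdeal_ne_bot, normalize_eq, Nat.cast_le]
  have h1 := pow_dvd_differentIdeal_iff hp P
  have hmap : P ^ P.ramificationIdx A ∣ p.map (algebraMap A B) := by
    obtain ⟨Q, -, hfac⟩ := Ideal.eq_prime_pow_mul_coprime hp' P
    rw [← Ideal.IsDedekindDomain.ramificationIdx_eq_normalizedFactors_count p P hp'] at hfac
    exact ⟨Q, hfac⟩
  have h2 := (hdvd _).1 (pow_sub_one_dvd_differentIdeal A P _ hp hmap)
  rw [hdvd] at h1
  refine ⟨h2, fun h => by_contra fun hn => ?_, fun h => ?_⟩
  · have := h1.2 hn; omega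
  · have := fun hle => h1.1 hle h
    by_contra hne
    exact this (by omega)

end Groth.Agent.HurwitzLib
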