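import Groth.Agent.HurwitzLib.Pairing
import Groth.Agent.HurwitzLib.Points
import Groth.Agent.HurwitzLib.Tame

/-!
# The Hurwitz inequality for separable covers of normal curves
-/

universe u

open CategoryTheory AlgebraicGeometry Limits Opposite TopologicalSpace
open Groth.Agent.PullStalk.Sky Groth.Agent.PullStalk.Exact
open Groth.Agent.FinCov71 Groth.Agent.VBLib Groth.Agent.VBLib.PushTrace
open Groth.Agent.CurveCoh (kMap)
open scoped nonZeroDivisors

set_option autoImplicit false
set_option linter.style.haveILetI false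
set_option linter.unusedSectionVars false
set_option backward.isDefEq.respectTransparency false
set_option backward.isDefEq.respectTransparency.types false

noncomputable section

namespace Groth.Agent.HurwitzLib

attribute [local instance] FractionRing.liftAlgebra FractionRing.isScalarTower_liftAlgebra Curv2.resAlgebra

variable (k : Type u) [Field k] {X Y : Scheme.{u}} [X.Over (Spec (CommRingCat.of k))]
  [Y.Over (Spec (CommRingCat.of k))] [IsIntegral X] [IsIntegral Y]

/-- Sections over an affine open of a good curve form a Dedekind domain. -/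
theorem isDedekindDomain_of_goodCurve (hY : GoodCurve k Y) {V : Y.Opens} (hV : IsAffineOpen V) [Nonempty V] :
    IsDedekindDomain Γ(Y, V) := by
  haveI := hY.isLocallyNoetherian
  haveI : IsNoetherianRing Γ(Y, V) := IsLocallyNoetherian.component_noetherian ⟨V, hV⟩
  haveI : IsDedekindDomainDvr Γ(Y, V) := ⟨fun P hP hPp => by
    obtain ⟨y, hy, he⟩ : ∃ (y : Y) (hy : y ∈ V), hV.primeIdealOf ⟨y, hy⟩ = ⟨P, hPp⟩ := by
      have hy : hV.fromSpec ⟨P, hPp⟩ ∈ V := by
        have : hV.fromSpec ⟨P, hPp⟩ ∈ Set.range hV.fromSpec := ⟨_, rfl⟩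
        rwa [hV.range_fromSpec] at this
      exact ⟨_, hy, hV.fromSpec.isOpenEmbedding.injective (hV.fromSpec_primeIdealOf ⟨_, hy⟩)⟩
    letI := Y.presheaf.algebra_section_stalk (⟨y, hy⟩ : V)
    haveI hl := hV.isLocalization_stalk ⟨y, hy⟩
    rw [he] at hl
    haveI := hl
    let e : Y.presheaf.stalk y ≃+* Localization.AtPrime P :=
      (IsLocalization.algEquiv P.primeCompl _ _).toRingEquiv
    haveI := hY.pid y
    haveI : IsPrincipalIdealRing (Localization.AtPrime P) := IsPrincipalIdealRing.of_surjective e.toRingHom e.surjective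
    refine { not_a_field' := ?_ }
    intro h
    rw [← Localization.AtPrime.map_eq_maximalIdeal] at h
    exact hP ((Ideal.map_eq_bot_iff_of_injective
      (IsLocalization.injective (Localization.AtPrime P) P.primeCompl_le_nonZeroDivisors)).1 h)⟩
  infer_instance

variable {k} (f : X ⟶ Y) [IsFinite f] (e : f (genericPoint X) = genericPoint Y)

omit [IsFinite f] in
lemma app_kMap (w : f ≫ (Y ↘ Spec (CommRingCat.of k)) = X ↘ Spec (CommRingCat.of k)) (V : Y.Opens) (c : k) :
    f.app V (kMap k V c) = kMap k (f ⁻¹ᵁ V) c := by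
  have h := ProperFin.toGlobal_comp f w c
  show f.app V (Y.presheaf.map _ _) = X.presheaf.map _ _
  refine Eq.trans ?_ (congrArg _ h)
  exact NatTrans.naturality_apply f.c (homOfLE (le_top : V ≤ ⊤)).op _

/-- The rank of the direct image is the degree of the function field extension. -/
theorem rk_pushO (hA : FlatMod.IsFinLocFree (pushO f)) :
    letI := (genMap f e).toAlgebra
    rk (pushO f) = Module.finrank Y.functionField X.functionField := by
  obtain ⟨V, hη, -, hV, hf⟩ := exists_affine_hasFrame (A := alg f) hA (W := ⊤) (x := genericPoint Y) trivial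
  have hη' := genericPoint_mem_preimage f e hη
  haveI : Nonempty V := ⟨⟨_, hη⟩⟩
  haveI : Nonempty (f ⁻¹ᵁ V : X.Opens) := ⟨⟨_, hη'⟩⟩
  haveI : IsDomain (Sec (alg f) V) := inferInstanceAs (IsDomain Γ(X, f ⁻¹ᵁ V))
  haveI := hf.free.1
  haveI := hf.free.2
  letI algK := (genMap f e).toAlgebra
  haveI : IsFractionRing Γ(Y, V) Y.functionField := functionField_isFractionRing_of_isAffineOpen Y V hV
  letI algBL : Algebra (Sec (alg f) V) X.functionField :=
    (inferInstance : Algebra Γ(X, f ⁻¹ᵁ V) X.functionField)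
  haveI : IsFractionRing (Sec (alg f) V) X.functionField :=
    functionField_isFractionRing_of_isAffineOpen X _ (hV.preimage f)
  letI : Algebra Γ(Y, V) X.functionField :=
    ((algebraMap (Sec (alg f) V) X.functionField).comp (algebraMap Γ(Y, V) (Sec (alg f) V))).toAlgebra
  haveI : IsScalarTower Γ(Y, V) (Sec (alg f) V) X.functionField := IsScalarTower.of_algebraMap_eq' rfl
  haveI : IsScalarTower Γ(Y, V) Y.functionField X.functionField :=
    IsScalarTower.of_algebraMap_eq fun r => (genMap_germ f e V hη hη' r).symm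
  haveI : IsLocalization (Algebra.algebraMapSubmonoid (Sec (alg f) V) Γ(Y, V)⁰) X.functionField := by
    haveI : FaithfulSMul Γ(Y, V) (Sec (alg f) V) :=
      (faithfulSMul_iff_algebraMap_injective _ _).mpr (app_injective f e hη)
    haveI : Algebra.IsIntegral Γ(Y, V) (Sec (alg f) V) := Algebra.IsIntegral.of_finite _ _
    haveI : Algebra.IsAlgebraic Γ(Y, V) (Sec (alg f) V) := Algebra.IsIntegral.isAlgebraic
    infer_instance
  obtain ⟨U, m, b, hVU, hb⟩ := hf
  rw [rk_eq_of_isFrame hb (hVU hη), Module.finrank_eq_card_basis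
    ((frameBasis hb hVU).localizationLocalization Y.functionField Γ(Y, V)⁰ X.functionField), Fintype.card_fin]

omit [X.Over (Spec (CommRingCat.of k))] [IsIntegral Y] [IsFinite f] in
lemma not_isClosed_genericPoint (hdim : topologicalKrullDim X = 1) : ¬ IsClosed ({genericPoint X} : Set X) := by
  intro h
  have huniv : ({genericPoint X} : Set X) = Set.univ := by
    rw [← h.closure_eq]; exact genericPoint_closure _
  haveI : Subsingleton X := ⟨fun a b => by
    have ha : a ∈ ({genericPoint X} : Set X) := huniv ▸ Set.mem_univ a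
    have hb : b ∈ ({genericPoint X} : Set X) := huniv ▸ Set.mem_univ b
    exact ha.trans hb.symm⟩
  have := topologicalKrullDim_zero_of_discreteTopology X
  rw [hdim] at this
  exact absurd this (by norm_num)

omit [X.Over (Spec (CommRingCat.of k))] [IsIntegral Y] [IsFinite f] in
lemma primeIdealOf_ne_bot (hdim : topologicalKrullDim X = 1) {U : X.Opens} (hU : IsAffineOpen U) {x : X}
    (hx : x ∈ U) (hc : IsClosed ({x} : Set X)) : (hU.primeIdealOf ⟨x, hx⟩).asIdeal ≠ ⊥ := by
  intro h
  haveI : Nonempty U := ⟨⟨x, hx⟩⟩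
  have hη : genericPoint X ∈ U := genericPoint_mem_of_mem hx
  apply not_isClosed_genericPoint hdim
  have h2 : hU.primeIdealOf ⟨genericPoint X, hη⟩ = hU.primeIdealOf ⟨x, hx⟩ := by
    rw [hU.primeIdealOf_genericPoint, genericPoint_eq_bot_of_affine]
    exact PrimeSpectrum.ext h.symm
  have h3 := congrArg hU.fromSpec h2
  rw [hU.fromSpec_primeIdealOf, hU.fromSpec_primeIdealOf] at h3
  rwa [show genericPoint X = x from h3]

/-- A closed point `x` is tame and unramified beyond `e_x - 1` for the cover. -/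
def TameAt (x : X) : Prop :=
  letI := (f.stalkMap x).hom.toAlgebra
  letI := (f.residueFieldMap x).hom.toAlgebra
  Algebra.IsSeparable (Y.residueField (f x)) (X.residueField x) ∧
    ((Ideal.ramificationIdx (IsLocalRing.maximalIdeal (X.presheaf.stalk x)) (Y.presheaf.stalk (f x)) : ℕ) :
      Y.residueField (f x)) ≠ 0

open Classical in
/-- The contribution of a point to the ramification sum. -/
def ramTerm (k : Type u) [Field k] [X.Over (Spec (CommRingCat.of k))] (x : X) : ℤ :=
  letI := (f.stalkMap x).hom.toAlgebra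
  if IsClosed ({x} : Set X) then
    (((Ideal.ramificationIdx (IsLocalRing.maximalIdeal (X.presheaf.stalk x)) (Y.presheaf.stalk (f x)) - 1 : ℕ) : ℤ) *
      (Module.finrank k (X.residueField x) : ℤ))
  else 0

variable (hA : FlatMod.IsFinLocFree (pushO f))

set_option maxHeartbeats 3200000 in
open UniqueFactorizationMonoid in
/-- The local formula on an affine open: the dimension of the cokernel is a sum of different exponents. -/
theorem exists_exponent (w : f ≫ (Y ↘ Spec (CommRingCat.of k)) = X ↘ Spec (CommRingCat.of k))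
    (hX : GoodCurve k X) (hY : GoodCurve k Y) (hsep : Sep f e) {V : Y.Opens} (hV : IsAffineOpen V) [Nonempty V] :
    ∃ (s : Finset X) (d : X → ℕ),
      (∀ x ∈ s, x ∈ f ⁻¹ᵁ V ∧ IsClosed ({x} : Set X) ∧ 0 < Module.finrank k (X.residueField x) ∧ 0 < d x) ∧
      (letI : Module k Γ(cokernel (phi f hA), V) := Module.compHom _ (kMap k V);
        Module.finrank k Γ(cokernel (phi f hA), V) = ∑ x ∈ s, d x * Module.finrank k (X.residueField x)) ∧
      ∀ x ∈ f ⁻¹ᵁ V, IsClosed ({x} : Set X) →
        ∃ m, (x ∉ s → m = 0) ∧ (x ∈ s → m = d x) ∧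
          letI := (f.stalkMap x).hom.toAlgebra
          Ideal.ramificationIdx (IsLocalRing.maximalIdeal (X.presheaf.stalk x)) (Y.presheaf.stalk (f x)) - 1 ≤ m ∧
          (m = Ideal.ramificationIdx (IsLocalRing.maximalIdeal (X.presheaf.stalk x)) (Y.presheaf.stalk (f x)) - 1 ↔
            TameAt f x) := by
  classical
  haveI := hX.proper
  haveI := hY.proper
  haveI := hX.isLocallyNoetherian
  haveI := hY.isLocallyNoetherian
  haveI := LocallyOfFiniteType.isLocallyNoetherian (X ↘ Spec (CommRingCat.of k))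
  have hη : genericPoint Y ∈ V := genericPoint_mem_of_mem (Classical.arbitrary V).2
  have hη' := genericPoint_mem_preimage f e hη
  haveI : Nonempty (f ⁻¹ᵁ V : X.Opens) := ⟨⟨_, hη'⟩⟩
  have hW : IsAffineOpen (f ⁻¹ᵁ V) := hV.preimage f
  haveI : IsDomain (Sec (alg f) V) := inferInstanceAs (IsDomain Γ(X, f ⁻¹ᵁ V))
  haveI := isDedekindDomain_of_goodCurve k hY hV
  haveI hDB : IsDedekindDomain Γ(X, f ⁻¹ᵁ V) := isDedekindDomain_of_goodCurve k hX hW
  haveI : IsDedekindDomain (Sec (alg f) V) := hDB
  letI : Algebra k Γ(Y, V) := (kMap k V).toAlgebra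
  letI algkX : Algebra k Γ(X, f ⁻¹ᵁ V) := (kMap k (f ⁻¹ᵁ V)).toAlgebra
  letI : Algebra k (Sec (alg f) V) := algkX
  haveI : IsScalarTower k Γ(Y, V) (Sec (alg f) V) :=
    IsScalarTower.of_algebraMap_eq fun c => (app_kMap f w V c).symm
  haveI : Module.Finite Γ(Y, V) (Sec (alg f) V) := IsFinite.finite_app (f := f) V hV
  haveI : FaithfulSMul Γ(Y, V) (Sec (alg f) V) :=
    (faithfulSMul_iff_algebraMap_injective _ _).mpr (app_injective f e hη)
  haveI : Algebra.IsSeparable (FractionRing Γ(Y, V)) (FractionRing (Sec (alg f) V)) := by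
    letI algK := (genMap f e).toAlgebra
    haveI : Algebra.IsSeparable Y.functionField X.functionField := hsep
    haveI : IsFractionRing Γ(Y, V) Y.functionField := functionField_isFractionRing_of_isAffineOpen Y V hV
    letI algBL : Algebra (Sec (alg f) V) X.functionField :=
      (inferInstance : Algebra Γ(X, f ⁻¹ᵁ V) X.functionField)
    haveI : IsFractionRing (Sec (alg f) V) X.functionField :=
      functionField_isFractionRing_of_isAffineOpen X _ hW
    refine Algebra.IsSeparable.of_equiv_equiv (FractionRing.algEquiv Γ(Y, V) Y.functionField).symm.toRingEquiv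
      (FractionRing.algEquiv (Sec (alg f) V) X.functionField).symm.toRingEquiv ?_
    refine IsLocalization.ringHom_ext Γ(Y, V)⁰ (RingHom.ext fun r => ?_)
    show algebraMap _ _ ((FractionRing.algEquiv Γ(Y, V) Y.functionField).symm (algebraMap _ _ r)) =
      (FractionRing.algEquiv (Sec (alg f) V) X.functionField).symm (genMap f e (algebraMap _ _ r))
    rw [AlgEquiv.commutes]
    refine Eq.trans ?_ (congrArg _ (genMap_germ f e V hη hη' r).symm)
    refine Eq.trans ?_ ((FractionRing.algEquiv (Sec (alg f) V) X.functionField).symm.commutes _).symm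
    exact (IsScalarTower.algebraMap_apply Γ(Y, V) (FractionRing Γ(Y, V)) (FractionRing (Sec (alg f) V)) r).symm.trans
      (IsScalarTower.algebraMap_apply Γ(Y, V) (Sec (alg f) V) (FractionRing (Sec (alg f) V)) r)
  set D := differentIdeal Γ(Y, V) (Sec (alg f) V) with hD
  have hD0 : D ≠ ⊥ := differentIdeal_ne_bot
  -- the points of the primes
  have hpt : ∀ P : Ideal Γ(X, f ⁻¹ᵁ V), P.IsMaximal → ∃ (x : X) (hx : x ∈ f ⁻¹ᵁ V),
      IsClosed ({x} : Set X) ∧ (hW.primeIdealOf ⟨x, hx⟩).asIdeal = P := by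
    intro P hP
    let q : Spec Γ(X, f ⁻¹ᵁ V) := ⟨P, hP.isPrime⟩
    have hx : hW.fromSpec q ∈ f ⁻¹ᵁ V := by
      have : hW.fromSpec q ∈ Set.range hW.fromSpec := ⟨_, rfl⟩
      rwa [hW.range_fromSpec] at this
    have hq : hW.primeIdealOf ⟨_, hx⟩ = q :=
      hW.fromSpec.isOpenEmbedding.injective (hW.fromSpec_primeIdealOf ⟨_, hx⟩)
    refine ⟨_, hx, ?_, congrArg (·.asIdeal) hq⟩
    haveI : JacobsonSpace X := LocallyOfFiniteType.jacobsonSpace (X ↘ Spec (CommRingCat.of k))
    have hqc : q ∈ closedPoints (Spec Γ(X, f ⁻¹ᵁ V)) := (PrimeSpectrum.isClosed_singleton_iff_isMaximal q).2 hP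
    rw [← hW.fromSpec.isOpenEmbedding.preimage_closedPoints] at hqc
    exact hqc
  choose pt hptV hptc hptP using hpt
  let ptOf : Ideal Γ(X, f ⁻¹ᵁ V) → X := fun P => if h : P.IsMaximal then pt P h else genericPoint X
  have hmax : ∀ P ∈ normalizedFactors D, P.IsMaximal := fun P hP =>
    (Ideal.isPrime_of_prime (prime_of_normalized_factor P hP)).isMaximal (prime_of_normalized_factor P hP).ne_zero
  let idl : X → Ideal Γ(X, f ⁻¹ᵁ V) := fun x =>
    if h : x ∈ f ⁻¹ᵁ V then (hW.primeIdealOf ⟨x, h⟩).asIdeal else ⊥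
  have hidl : ∀ P ∈ normalizedFactors D, idl (ptOf P) = P := fun P hP => by
    simp only [ptOf, idl, dif_pos (hmax P hP), dif_pos (hptV P (hmax P hP)), hptP]
  have hidl' : ∀ x (hx : x ∈ f ⁻¹ᵁ V), idl x = (hW.primeIdealOf ⟨x, hx⟩).asIdeal := fun x hx => dif_pos hx
  have hres : ∀ x (hx : x ∈ f ⁻¹ᵁ V), IsClosed ({x} : Set X) →
      Module.Finite k (Γ(X, f ⁻¹ᵁ V) ⧸ idl x) ∧
        Module.finrank k (Γ(X, f ⁻¹ᵁ V) ⧸ idl x) = Module.finrank k (X.residueField x) := fun x hx hc => by
    rw [hidl' x hx]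
    exact residue_quotient k hW hx hc rfl
  let s : Finset X := (normalizedFactors D).toFinset.image ptOf
  let d : X → ℕ := fun x => (normalizedFactors D).count (idl x)
  have hfin : ∀ P : Ideal (Sec (alg f) V), P.IsMaximal → Module.Finite k (Sec (alg f) V ⧸ P) := fun P hP => by
    have h := (hres (pt P hP) (hptV P hP) (hptc P hP)).1
    rw [hidl' _ (hptV P hP), hptP P hP] at h
    exact h
  refine ⟨s, d, ?_, ?_, ?_⟩
  · intro x hx
    obtain ⟨P, hP, rfl⟩ := Finset.mem_image.1 hx
    have hP' := Multiset.mem_toFinset.1 hP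
    have h1 : ptOf P = pt P (hmax P hP') := dif_pos _
    have hv : ptOf P ∈ f ⁻¹ᵁ V := h1 ▸ hptV P (hmax P hP')
    have hc : IsClosed ({ptOf P} : Set X) := h1 ▸ hptc P (hmax P hP')
    refine ⟨hv, hc, ?_, ?_⟩
    · haveI : Module.Finite k (X.residueField (ptOf P)) :=
        (ZetaLib.isClosed_iff_finite (X ↘ Spec (CommRingCat.of k)) _).1 hc
      exact Module.finrank_pos
    · show 0 < (normalizedFactors D).count (idl (ptOf P))
      rw [hidl P hP']
      exact Multiset.count_pos.2 hP'
  · refine (finrank_coker_sections f e hA hsep hV hfin).trans ?_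
    rw [(finite_and_finrank_quot hfin hD0).2, Finset.sum_multiset_map_count, Finset.sum_image fun P hP Q hQ h => by
      rw [← hidl P (Multiset.mem_toFinset.1 hP), h, hidl Q (Multiset.mem_toFinset.1 hQ)]]
    refine Finset.sum_congr rfl fun P hP => ?_
    have hP' := Multiset.mem_toFinset.1 hP
    have h1 : ptOf P = pt P (hmax P hP') := dif_pos _
    have h2 := (hres (ptOf P) (h1 ▸ hptV P (hmax P hP')) (h1 ▸ hptc P (hmax P hP'))).2
    rw [hidl P hP'] at h2
    show _ = (normalizedFactors D).count (idl (ptOf P)) * _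
    rw [hidl P hP', smul_eq_mul, ← h2]
    rfl
  · intro x hx hc
    haveI : IsDomain (X.presheaf.stalk x) := inferInstance
    have hne : x ≠ genericPoint X := fun h => not_isClosed_genericPoint hX.dim (h ▸ hc)
    have hc' : IsClosed ({f x} : Set Y) := by
      simpa using f.isClosedMap _ hc
    haveI : IsPrincipalIdealRing (X.presheaf.stalk x) := hX.pid x
    haveI : IsDiscreteValuationRing (X.presheaf.stalk x) :=
      { not_a_field' := fun h => by
          letI := X.presheaf.algebra_section_stalk (⟨x, hx⟩ : (f ⁻¹ᵁ V : X.Opens))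
          haveI := hW.isLocalization_stalk ⟨x, hx⟩
          rw [← IsLocalization.AtPrime.map_eq_maximalIdeal (hW.primeIdealOf ⟨x, hx⟩).asIdeal,
            Ideal.map_eq_bot_iff_of_injective (IsLocalization.injective (X.presheaf.stalk x)
              ((hW.primeIdealOf ⟨x, hx⟩).asIdeal.primeCompl_le_nonZeroDivisors))] at h
          exact primeIdealOf_ne_bot hX.dim hW hx hc h }
    set p := (hV.primeIdealOf ⟨f x, hx⟩).asIdeal with hp
    haveI : p.IsMaximal := isMaximal_primeIdealOf hV hx hc'
    haveI hPm : (hW.primeIdealOf ⟨x, hx⟩).asIdeal.IsMaximal := isMaximal_primeIdealOf hW hx hc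
    have hp0 : p ≠ ⊥ := primeIdealOf_ne_bot hY.dim hV hx hc'
    letI algB : Algebra Γ(Y, V) Γ(X, f ⁻¹ᵁ V) := (f.app V).hom.toAlgebra
    obtain ⟨hlo, hram, htame⟩ := ramification_at f hV hW hx hc hc' rfl p rfl _ rfl
      ((Ideal.map_eq_bot_iff_of_injective (app_injective f e hη)).not.mpr hp0)
    haveI : (show Ideal (Sec (alg f) V) from (hW.primeIdealOf ⟨x, hx⟩).asIdeal).LiesOver p := hlo
    haveI : (show Ideal (Sec (alg f) V) from (hW.primeIdealOf ⟨x, hx⟩).asIdeal).IsMaximal := hPm
    obtain ⟨hle, hiff⟩ := sub_one_le_count (A := Γ(Y, V)) (B := Sec (alg f) V) hp0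
      (show Ideal (Sec (alg f) V) from (hW.primeIdealOf ⟨x, hx⟩).asIdeal)
    refine ⟨(normalizedFactors D).count (idl x), fun hns => ?_, fun hs => rfl, ?_, ?_⟩
    · rw [Multiset.count_eq_zero]
      intro hmem
      apply hns
      refine Finset.mem_image.2 ⟨idl x, Multiset.mem_toFinset.2 hmem, ?_⟩
      have h1 : ptOf (idl x) = pt _ (hmax _ hmem) := dif_pos _
      have h2 := hptP _ (hmax _ hmem)
      rw [h1]
      have h3 : hW.primeIdealOf ⟨_, hptV _ (hmax _ hmem)⟩ = hW.primeIdealOf ⟨x, hx⟩ :=
        PrimeSpectrum.ext (h2.trans (hidl' x hx))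
      have h4 := congrArg hW.fromSpec h3
      rwa [hW.fromSpec_primeIdealOf, hW.fromSpec_primeIdealOf] at h4
    · rw [hram, hidl' x hx]
      exact hle
    · rw [hidl' x hx]
      unfold TameAt
      rw [hram]
      exact hiff.trans ⟨fun h => htame.2 @fun _ => h, fun h => htame.1 h⟩

end Groth.Agent.HurwitzLib
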