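import Groth.Agent.HurwitzLib.Quot
import Mathlib.RingTheory.Localization.Module
import Mathlib.RingTheory.IntegralClosure.IntegralRestrict

/-!
# The cokernel of the trace pairing has the dimension of the quotient by the different
-/

set_option autoImplicit false
set_option linter.style.haveILetI false

open scoped nonZeroDivisors
attribute [local instance] FractionRing.liftAlgebra FractionRing.isScalarTower_liftAlgebra

namespace Groth.Agent.HurwitzLib

variable {k A B : Type*} [Field k] [CommRing A] [IsDedekindDomain A] [CommRing B] [IsDedekindDomain B]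
  [Algebra k A] [Algebra A B] [Algebra k B] [IsScalarTower k A B] [Module.Finite A B]
  [Module.IsTorsionFree A B]

variable (A B) in
/-- The trace pairing into the `A`-dual. -/
noncomputable def traceToDual : B →ₗ[A] Module.Dual A B :=
  (LinearMap.mul A B).compr₂ (Algebra.intTrace A B)

lemma traceToDual_apply (c b : B) : traceToDual A B c b = Algebra.intTrace A B (c * b) := rfl

set_option maxHeartbeats 1600000 in
theorem finrank_coker_traceToDual [Algebra.IsSeparable (FractionRing A) (FractionRing B)]
    (hfin : ∀ P : Ideal B, P.IsMaximal → Module.Finite k (B ⧸ P)) :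
    Module.finrank k (Module.Dual A B ⧸ (LinearMap.range (traceToDual A B)).restrictScalars k) =
      Module.finrank k (B ⧸ differentIdeal A B) := by
  classical
  let K := FractionRing A
  let L := FractionRing B
  haveI : IsLocalization (Algebra.algebraMapSubmonoid B A⁰) L := IsIntegralClosure.isLocalization _ K _ _
  haveI : FiniteDimensional K L := .of_isLocalization A B A⁰
  haveI : IsIntegralClosure B A L := IsIntegralClosure.of_isIntegrallyClosed B A L
  set D := differentIdeal A B with hD
  have hD0 : D ≠ ⊥ := differentIdeal_ne_bot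
  obtain ⟨d, hdD, hd0⟩ := Submodule.exists_mem_ne_zero_of_ne_bot hD0
  have hd : algebraMap B L d ≠ 0 := fun e => hd0 ((map_eq_zero_iff _ (IsFractionRing.injective B L)).1 e)
  let dual1 : FractionalIdeal B⁰ L := FractionalIdeal.dual A K 1
  have hdual0 : dual1 ≠ 0 := FractionalIdeal.dual_ne_zero A K one_ne_zero
  have hDi : (D : FractionalIdeal B⁰ L) * dual1 = 1 := by
    rw [hD, coeIdeal_differentIdeal A K L B]
    exact inv_mul_cancel₀ hdual0
  have mem_dual1 : ∀ x : L, x ∈ dual1 ↔
      ∀ b : B, Algebra.trace K L (x * algebraMap B L b) ∈ (algebraMap A K).range := by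
    intro x
    refine (FractionalIdeal.mem_dual (one_ne_zero : (1 : FractionalIdeal B⁰ L) ≠ 0)).trans ⟨fun h b => ?_, fun h a ha => ?_⟩
    · exact h _ ((FractionalIdeal.mem_one_iff _).2 ⟨b, rfl⟩)
    · obtain ⟨b, rfl⟩ := (FractionalIdeal.mem_one_iff _).1 ha
      exact h b
  -- the ideal `d D⁻¹`
  let J : Ideal B :=
    { carrier := {c | algebraMap B L c / algebraMap B L d ∈ dual1}
      add_mem' := fun {a b} ha hb => by
        show algebraMap B L (a + b) / _ ∈ dual1
        rw [map_add, add_div]
        exact (dual1 : Submodule B L).add_mem ha hb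
      zero_mem' := by
        show algebraMap B L 0 / _ ∈ dual1
        rw [map_zero, zero_div]
        exact (dual1 : Submodule B L).zero_mem
      smul_mem' := fun r c hc => by
        show algebraMap B L (r * c) / _ ∈ dual1
        rw [map_mul, mul_div_assoc, ← Algebra.smul_def]
        exact (dual1 : Submodule B L).smul_mem r hc }
  have hJ : ∀ c, c ∈ J ↔ algebraMap B L c / algebraMap B L d ∈ dual1 := fun c => Iff.rfl
  have hJeq : (J : FractionalIdeal B⁰ L) = FractionalIdeal.spanSingleton B⁰ (algebraMap B L d) * dual1 := by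
    refine le_antisymm (fun x hx => ?_) (FractionalIdeal.spanSingleton_mul_le_iff.2 fun z hz => ?_)
    · obtain ⟨c, hc, rfl⟩ := (FractionalIdeal.mem_coeIdeal _).1 hx
      rw [← mul_div_cancel₀ (algebraMap B L c) hd]
      exact FractionalIdeal.mul_mem_mul (FractionalIdeal.mem_spanSingleton_self _ _) hc
    · have h1 : algebraMap B L d * z ∈ (1 : FractionalIdeal B⁰ L) :=
        hDi ▸ FractionalIdeal.mul_mem_mul ((FractionalIdeal.mem_coeIdeal _).2 ⟨d, hdD, rfl⟩) hz
      obtain ⟨c, hc⟩ := (FractionalIdeal.mem_one_iff _).1 h1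
      rw [← hc, FractionalIdeal.mem_coeIdeal]
      refine ⟨c, ?_, rfl⟩
      rw [hJ, hc, mul_div_cancel_left₀ _ hd]
      exact hz
  have hJD : J * D = Ideal.span {d} := by
    apply FractionalIdeal.coeIdeal_injective (K := L)
    show ((J * D : Ideal B) : FractionalIdeal B⁰ L) = ((Ideal.span {d} : Ideal B) : FractionalIdeal B⁰ L)
    rw [FractionalIdeal.coeIdeal_mul, hJeq, mul_assoc, mul_comm dual1, hDi, mul_one,
      FractionalIdeal.coeIdeal_span_singleton]
  have hdJ : Ideal.span {d} ≤ J := hJD ▸ Ideal.mul_le_left
  have hJ0 : J ≠ ⊥ := fun e => hd0 (by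
    rw [e, Ideal.bot_mul] at hJD
    exact Ideal.span_singleton_eq_bot.1 hJD.symm)
  -- the functional attached to an element of `J`
  have hex : ∀ c : J, ∀ b : B, ∃ a : A, algebraMap A K a =
      Algebra.trace K L ((algebraMap B L c / algebraMap B L d) * algebraMap B L b) :=
    fun c b => (mem_dual1 _).1 c.2 b
  choose val hval using hex
  have hinjA := IsFractionRing.injective A K
  let Ψ : (J.restrictScalars k) →ₗ[k] Module.Dual A B :=
    { toFun := fun c =>
        { toFun := val ⟨c.1, c.2⟩
          map_add' := fun b b' => hinjA (by rw [map_add, hval, hval, hval, map_add, mul_add, map_add])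
          map_smul' := fun r b => hinjA (by
            rw [RingHom.id_apply, smul_eq_mul, map_mul (algebraMap A K), hval, hval, Algebra.smul_def, map_mul (algebraMap B L),
              ← IsScalarTower.algebraMap_apply A B L, IsScalarTower.algebraMap_apply A K L,
              mul_left_comm, ← Algebra.smul_def, map_smul, smul_eq_mul]) }
      map_add' := fun c c' => LinearMap.ext fun b => hinjA (by
        show algebraMap A K (val _ b) = algebraMap A K (val _ b + val _ b)
        rw [map_add, hval, hval, hval]
        show Algebra.trace K L (algebraMap B L (c.1 + c'.1) / _ * _) = _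
        rw [map_add, add_div, add_mul, map_add])
      map_smul' := fun r c => LinearMap.ext fun b => hinjA (by
        show algebraMap A K (val _ b) = algebraMap A K (r • val _ b)
        rw [Algebra.smul_def r (val _ b), map_mul, hval, hval]
        show Algebra.trace K L (algebraMap B L (r • c.1) / _ * _) = _
        rw [Algebra.smul_def r c.1, IsScalarTower.algebraMap_apply k A B, map_mul (algebraMap B L),
          ← IsScalarTower.algebraMap_apply A B L, IsScalarTower.algebraMap_apply A K L, mul_div_assoc, mul_assoc,
          ← Algebra.smul_def, map_smul, smul_eq_mul]) }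
  have hΨ : ∀ (c : J.restrictScalars k) (b : B), algebraMap A K (Ψ c b) =
      Algebra.trace K L ((algebraMap B L c.1 / algebraMap B L d) * algebraMap B L b) :=
    fun c b => hval ⟨c.1, c.2⟩ b
  have hinj : Function.Injective Ψ := by
    rw [injective_iff_map_eq_zero]
    intro c hc
    have h : ∀ z : L, Algebra.trace K L ((algebraMap B L c.1 / algebraMap B L d) * z) = 0 := by
      intro z
      obtain ⟨b, ⟨_, s, hs, rfl⟩, rfl⟩ := IsLocalization.exists_mk'_eq (Algebra.algebraMapSubmonoid B A⁰) z
      have hs0 : algebraMap A K s ≠ 0 := fun e =>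
        nonZeroDivisors.ne_zero hs ((map_eq_zero_iff _ hinjA).1 e)
      apply (mul_eq_zero_iff_left hs0).mp
      rw [← smul_eq_mul, ← map_smul, Algebra.smul_def, ← IsScalarTower.algebraMap_apply,
        IsScalarTower.algebraMap_apply A B L, mul_left_comm, IsLocalization.mk'_spec' (M := Algebra.algebraMapSubmonoid B A⁰) L b ⟨algebraMap A B s, ⟨s, hs, rfl⟩⟩, ← hΨ, hc]
      simp
    have h0 := (traceForm_nondegenerate K L).1 _ h
    rw [div_eq_zero_iff, or_iff_left hd, map_eq_zero_iff _ (IsFractionRing.injective B L)] at h0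
    exact Subtype.ext h0
  have hsurj : Function.Surjective Ψ := by
    intro φ
    haveI : IsLocalizedModule A⁰ (IsScalarTower.toAlgHom A B L).toLinearMap :=
      (isLocalizedModule_iff_isLocalization (R := A) (S := A⁰)).2 inferInstance
    let φK : B →ₗ[A] K := (Algebra.linearMap A K).comp φ
    have hu : ∀ x : A⁰, IsUnit (algebraMap A (Module.End A K) x) := fun x =>
      (Module.End.isUnit_iff _).2 ⟨fun a b h => by
          have hx : algebraMap A K x ≠ 0 := fun e =>
            nonZeroDivisors.coe_ne_zero x ((map_eq_zero_iff _ hinjA).1 e)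
          simp only [Module.algebraMap_end_apply, Algebra.smul_def] at h
          exact mul_left_cancel₀ hx h,
        fun a => ⟨(algebraMap A K x)⁻¹ * a, by
          have hx : algebraMap A K x ≠ 0 := fun e =>
            nonZeroDivisors.coe_ne_zero x ((map_eq_zero_iff _ hinjA).1 e)
          simp only [Module.algebraMap_end_apply, Algebra.smul_def]
          rw [mul_inv_cancel_left₀ hx]⟩⟩
    let ext := IsLocalizedModule.lift A⁰ (IsScalarTower.toAlgHom A B L).toLinearMap φK hu
    let extK : L →ₗ[K] K := LinearMap.extendScalarsOfIsLocalization A⁰ K ext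
    obtain ⟨z, hz⟩ := ((Algebra.traceForm K L).toDual (traceForm_nondegenerate K L)).surjective extK
    have hzb : ∀ b : B, Algebra.trace K L (z * algebraMap B L b) = algebraMap A K (φ b) := by
      intro b
      have h1 := LinearMap.congr_fun hz (algebraMap B L b)
      rw [LinearMap.BilinForm.toDual_def, Algebra.traceForm_apply] at h1
      rw [h1]
      exact IsLocalizedModule.lift_apply A⁰ _ φK hu b
    have hzd : z ∈ dual1 := (mem_dual1 z).2 fun b => ⟨φ b, (hzb b).symm⟩
    have h1 : algebraMap B L d * z ∈ (J : FractionalIdeal B⁰ L) :=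
      hJeq ▸ FractionalIdeal.mul_mem_mul (FractionalIdeal.mem_spanSingleton_self _ _) hzd
    obtain ⟨c, hc, hcz⟩ := (FractionalIdeal.mem_coeIdeal _).1 h1
    refine ⟨⟨c, hc⟩, LinearMap.ext fun b => hinjA ?_⟩
    rw [hΨ, hcz, mul_div_cancel_left₀ _ hd, hzb]
  let e := LinearEquiv.ofBijective Ψ ⟨hinj, hsurj⟩
  have himg : (((Ideal.span {d}).restrictScalars k).comap (J.restrictScalars k).subtype).map
      (e : (J.restrictScalars k) →ₗ[k] Module.Dual A B) =
      (LinearMap.range (traceToDual A B)).restrictScalars k := by
    have key : ∀ (w : B) (hw : d * w ∈ J), Ψ ⟨d * w, hw⟩ = traceToDual A B w := fun w hw =>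
      LinearMap.ext fun b => hinjA (by
        rw [hΨ, traceToDual_apply, Algebra.algebraMap_intTrace (L := L), map_mul (algebraMap B L), map_mul (algebraMap B L),
          mul_div_cancel_left₀ _ hd])
    ext φ
    constructor
    · rintro ⟨⟨c, hc⟩, hcd, rfl⟩
      obtain ⟨w, rfl⟩ := Ideal.mem_span_singleton'.1 (hcd : c ∈ Ideal.span {d})
      refine ⟨w, ?_⟩
      rw [← key w (by rwa [mul_comm])]
      exact congrArg Ψ (Subtype.ext (mul_comm d w))
    · rintro ⟨w, rfl⟩
      have hw : d * w ∈ J := hdJ (Ideal.mul_mem_right _ _ (Ideal.mem_span_singleton_self d))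
      exact ⟨⟨d * w, hw⟩, Ideal.mul_mem_right _ _ (Ideal.mem_span_singleton_self d), key w hw⟩
  rw [← (Submodule.Quotient.equiv _ _ e himg).finrank_eq]
  obtain ⟨f1, e1⟩ := finite_and_finrank_quot (k := k) hfin (I := Ideal.span {d}) (by simpa using hd0)
  haveI := f1
  have h1 := finrank_le_factor (k := k) hdJ
  obtain ⟨-, e2⟩ := finite_and_finrank_quot (k := k) hfin (I := J) hJ0
  obtain ⟨-, e3⟩ := finite_and_finrank_quot (k := k) hfin (I := D) hD0
  rw [← hJD, UniqueFactorizationMonoid.normalizedFactors_mul hJ0 hD0, Multiset.map_add, Multiset.sum_add,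
    ← e2, ← e3, hJD] at e1
  omega

end Groth.Agent.HurwitzLib
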