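import Groth.Agent.HurwitzLib.Formula

/-!
# The Hurwitz inequality
-/

universe u

open CategoryTheory AlgebraicGeometry Limits Opposite TopologicalSpace
open Groth.Agent.PullStalk.Sky Groth.Agent.PullStalk.Exact
open Groth.Agent.FinCov71 Groth.Agent.VBLib Groth.Agent.VBLib.PushTrace
open Groth.Agent.CurveCoh (kMap)

set_option autoImplicit false
set_option linter.style.haveILetI false
set_option linter.unusedSectionVars false
set_option backward.isDefEq.respectTransparency false
set_option backward.isDefEq.respectTransparency.types false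

noncomputable section

namespace Groth.Agent.HurwitzLib

attribute [local instance] Curv2.resAlgebra

variable {k : Type u} [Field k] {X Y : Scheme.{u}} [X.Over (Spec (CommRingCat.of k))]
  [Y.Over (Spec (CommRingCat.of k))] [IsIntegral X] [IsIntegral Y] (f : X ⟶ Y) [IsFinite f]
  (e : f (genericPoint X) = genericPoint Y)

include e in
/-- The Hurwitz inequality, with equality exactly in the tame case. -/
theorem hurwitz (w : f ≫ (Y ↘ Spec (CommRingCat.of k)) = X ↘ Spec (CommRingCat.of k))
    (hX : GoodCurve k X) (hY : GoodCurve k Y) (hsep : Sep f e) :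
    letI := (genMap f e).toAlgebra
    letI hn := Module.finrank Y.functionField X.functionField
    (hn : ℤ) * (2 * ((1 - Curv2.euler k Y (Coh.structureModule Y)) - 1)) + ∑ᶠ x : X, ramTerm f k x ≤
        2 * ((1 - Curv2.euler k X (Coh.structureModule X)) - 1) ∧
      ((hn : ℤ) * (2 * ((1 - Curv2.euler k Y (Coh.structureModule Y)) - 1)) + ∑ᶠ x : X, ramTerm f k x =
          2 * ((1 - Curv2.euler k X (Coh.structureModule X)) - 1) ↔
        ∀ x : X, IsClosed ({x} : Set X) → TameAt f x) := by
  classical
  haveI := hX.proper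
  haveI := hY.proper
  haveI := hX.isLocallyNoetherian
  haveI := hY.isLocallyNoetherian
  obtain ⟨hA, -⟩ := isFinLocFree_pushO f hY e
  haveI := mono_phi f hA e hsep
  set T := cokernel (phi f hA) with hT
  obtain ⟨hD, hr⟩ := DualDeg.isFinLocFree_dual hY.pid hA
  have hPc := isCoh_pushO f
  have hDc := isCoh_of_isFinLocFree hD
  have hTc : Coh.IsCoh T := isCoh_cokernel (phi f hA) hPc hDc
  obtain ⟨hd, hrk⟩ := hY.dg_mono_cokernel (phi f hA) hPc hDc
  have hT0 : rk T = 0 := by simp only [hT] at *; omega
  have hdual := hY.dg_dual hA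
  have hpush := euler_pushO f w
  rw [← rk_pushO f e hA]
  set n := rk (pushO f)
  -- the Euler characteristic of the cokernel
  have heul : Curv2.euler k Y T =
      2 * ((n : ℤ) * Curv2.euler k Y (Coh.structureModule Y) - Curv2.euler k X (Coh.structureModule X)) := by
    have h1 : dg k T = -2 * dg k (pushO f) := by simp only [hT] at *; omega
    simp only [dg, Curv2.deg, hT0, hpush, Nat.cast_zero, zero_mul, sub_zero] at h1
    rw [h1]; ring
  obtain ⟨W, hηW, hWs⟩ := hY.exists_open_of_rk_zero hTc hT0
  have hzero : ∀ O : Y.Opens, O ≤ W → ∀ a b : Γ(T, O), a = b := by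
    intro O hO a b
    refine TopCat.Presheaf.section_ext ⟨T.presheaf, T.isSheaf⟩ O a b fun x hx => ?_
    haveI := hWs x (hO hx)
    exact Subsingleton.elim _ _
  -- a closed point off the support and the affine open missing it
  haveI : JacobsonSpace Y := LocallyOfFiniteType.jacobsonSpace (Y ↘ Spec (CommRingCat.of k))
  obtain ⟨q, hqW, hqc⟩ : ((W : Set Y) ∩ closedPoints Y).Nonempty :=
    nonempty_inter_closedPoints ⟨_, hηW⟩ W.2.isLocallyClosed
  let V : Y.Opens := ⟨({q} : Set Y)ᶜ, hqc.isOpen_compl⟩
  have hηV : genericPoint Y ∈ V := fun h => not_isClosed_genericPoint hY.dim (by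
    rw [Set.mem_singleton_iff] at h; rw [h]; exact hqc)
  haveI : Nonempty V := ⟨⟨_, hηV⟩⟩
  have hV : IsAffineOpen V := DimOneAmple.isAffineOpen_of_ne_top (k := k) hY.dim V ⟨_, hηV⟩ fun h => by
    have : q ∈ V := h ▸ trivial
    exact this rfl
  obtain ⟨s, d, hs, hsum, hexp⟩ := exists_exponent f e hA w hX hY hsep hV
  -- global sections of the cokernel are its sections on the affine open
  have hT1 : Curv2.euler k Y T = ∑ x ∈ s, (d x : ℤ) * (Module.finrank k (X.residueField x) : ℤ) := by
    haveI := hTc.1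
    haveI := hY.isFlasque_of_rk_zero hTc hT0
    haveI : Subsingleton (Coh.HH Y T 1) :=
      CohTop.Flasque.H_subsingleton (X := Y.toPresheafedSpace.carrier) (Coh.toAb T) 0
    rw [CurveCoh.euler_eq T hY.val hY.dim, Module.finrank_zero_of_subsingleton (M := Coh.HH Y T 1), Nat.cast_zero,
      sub_zero]
    letI : Module k Γ(T, ⊤) := Module.compHom _ (KSMod.kTop k (Y ↘ Spec (CommRingCat.of k)))
    letI : Module k Γ(T, V) := Module.compHom _ (kMap k V)
    let ρ : Γ(T, ⊤) →ₗ[k] Γ(T, V) :=
      { toFun := QCoh.res T le_top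
        map_add' := map_add _
        map_smul' := fun c m => QCoh.res_smul T le_top (Coh.toGlobal (Y ↘ Spec (CommRingCat.of k)) c) m }
    have hρ : Function.Bijective ρ := by
      refine ⟨(injective_iff_map_eq_zero ρ).2 fun m hm => ?_, fun t => ?_⟩
      · refine TopCat.Sheaf.eq_of_locally_eq' (Coh.toAb T) (fun b : Bool => if b then V else W) ⊤
          (fun _ => homOfLE le_top) (fun x _ => Opens.mem_iSup.2 ?_) m 0 ?_
        · by_cases hx : x = q
          · exact ⟨false, by simpa [hx] using hqW⟩
          · exact ⟨true, hx⟩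
        · rintro (_ | _)
          · exact hzero _ le_rfl _ _
          · exact hm.trans (map_zero _).symm
      · exact (AddCommGrpCat.epi_iff_surjective _).mp (TopCat.Presheaf.IsFlasque.epi
          (X := Y.toPresheafedSpace.carrier) (F := (Coh.toAb T).obj) (homOfLE (le_top : V ≤ ⊤)).op) t
    rw [((ShStabLib.BC.h0Equiv (k := k) T).trans (LinearEquiv.ofBijective ρ hρ)).finrank_eq, hsum]
    push_cast
    rfl
  -- closed points
  have hkey : ∀ x : X, IsClosed ({x} : Set X) →
      ∃ m : ℕ, (x ∉ s → m = 0) ∧ (x ∈ s → m = d x) ∧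
        letI := (f.stalkMap x).hom.toAlgebra
        Ideal.ramificationIdx (IsLocalRing.maximalIdeal (X.presheaf.stalk x)) (Y.presheaf.stalk (f x)) - 1 ≤ m ∧
        (m = Ideal.ramificationIdx (IsLocalRing.maximalIdeal (X.presheaf.stalk x)) (Y.presheaf.stalk (f x)) - 1 ↔
          TameAt f x) := by
    intro x hc
    by_cases hxV : x ∈ f ⁻¹ᵁ V
    · exact hexp x hxV hc
    · have hxW : f x ∈ W := by
        have : f x = q := not_not.1 hxV
        rw [this]; exact hqW
      obtain ⟨_, ⟨O, hO, rfl⟩, hxO, hOW⟩ :=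
        Y.isBasis_affineOpens.exists_subset_of_mem_open hxW W.2
      haveI : Nonempty O := ⟨⟨_, hxO⟩⟩
      obtain ⟨s', d', hs', hsum', hexp'⟩ := exists_exponent f e hA w hX hY hsep (V := O) hO
      obtain ⟨m, hm1, hm2, hm3⟩ := hexp' x hxO hc
      haveI : Subsingleton Γ(T, O) := ⟨hzero O hOW⟩
      letI : Module k Γ(T, O) := Module.compHom _ (kMap k O)
      rw [Module.finrank_zero_of_subsingleton] at hsum'
      have hs'0 : x ∉ s' := fun hmem => by
        obtain ⟨-, -, hpos, hdpos⟩ := hs' x hmem
        have := Finset.sum_eq_zero_iff.1 hsum'.symm x hmem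
        exact (Nat.mul_pos hdpos hpos).ne' this
      exact ⟨m, fun _ => hm1 hs'0, fun hmem => absurd (hs x hmem).1 hxV, hm3⟩
  -- the ramification sum is supported on `s`
  have hsupp : Function.support (ramTerm f k) ⊆ (s : Set X) := by
    intro x hx
    by_contra hns
    apply hx
    unfold ramTerm
    split_ifs with hc
    · obtain ⟨m, hm1, -, hle, -⟩ := hkey x hc
      rw [hm1 hns] at hle
      rw [Nat.le_zero.1 hle]
      simp
    · rfl
  rw [finsum_eq_sum_of_support_subset _ hsupp]
  have hterm : ∀ x ∈ s, ramTerm f k x ≤ (d x : ℤ) * (Module.finrank k (X.residueField x) : ℤ) ∧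
      (ramTerm f k x = (d x : ℤ) * (Module.finrank k (X.residueField x) : ℤ) ↔ TameAt f x) := by
    intro x hx
    obtain ⟨-, hc, hpos, -⟩ := hs x hx
    obtain ⟨m, -, hm2, hle, hiff⟩ := hkey x hc
    rw [hm2 hx] at hle hiff
    unfold ramTerm
    rw [if_pos hc]
    have hp : (0 : ℤ) < (Module.finrank k (X.residueField x) : ℤ) := by exact_mod_cast hpos
    refine ⟨mul_le_mul_of_nonneg_right (by exact_mod_cast hle) hp.le, ?_⟩
    rw [mul_left_inj' hp.ne', Nat.cast_inj, eq_comm]
    exact hiff
  have hle := Finset.sum_le_sum fun x hx => (hterm x hx).1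
  have hR : 2 * ((1 - Curv2.euler k X (Coh.structureModule X)) - 1) =
      (n : ℤ) * (2 * ((1 - Curv2.euler k Y (Coh.structureModule Y)) - 1)) +
        ∑ x ∈ s, (d x : ℤ) * (Module.finrank k (X.residueField x) : ℤ) := by
    rw [← hT1, heul]; ring
  rw [hR]
  refine ⟨by linarith, ?_⟩
  rw [add_right_inj, Finset.sum_eq_sum_iff_of_le fun x hx => (hterm x hx).1]
  constructor
  · intro h x hc
    by_cases hx : x ∈ s
    · exact (hterm x hx).2.1 (h x hx)
    · obtain ⟨m, hm1, -, hle', hiff⟩ := hkey x hc
      apply hiff.1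
      have := hm1 hx
      omega
  · intro h x hx
    exact (hterm x hx).2.2 (h x (hs x hx).2.1)

end Groth.Agent.HurwitzLib
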