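import Groth.Agent.VBLib.PushTrace
import Groth.Agent.HurwitzLib.Dual
import Groth.Agent.Curv2Norm.DimOne
import Groth.Agent.ShStabLib.BC.Sys
import Groth.Agent.DimOneAmple.AffineCurve
import Groth.Agent.FDesc.GenericClosure
import Groth.Agent.QCoh.Exact

/-!
# The cokernel of the trace pairing of a separable cover of normal curves, on an affine open
-/

universe u

open CategoryTheory AlgebraicGeometry Limits Opposite TopologicalSpace
open Groth.Agent.PullStalk.Sky Groth.Agent.PullStalk.Exact
open Groth.Agent.FinCov71 Groth.Agent.VBLib Groth.Agent.VBLib.PushTrace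
open scoped nonZeroDivisors

set_option autoImplicit false
set_option linter.style.haveILetI false
set_option linter.unusedSectionVars false
set_option backward.isDefEq.respectTransparency false
set_option backward.isDefEq.respectTransparency.types false

noncomputable section

namespace Groth.Agent.HurwitzLib

attribute [local instance] FractionRing.liftAlgebra FractionRing.isScalarTower_liftAlgebra

variable {X Y : Scheme.{u}} (f : X ⟶ Y) [IsFinite f] [IsIntegral X] [IsIntegral Y]
  (e : f (genericPoint X) = genericPoint Y) (hA : FlatMod.IsFinLocFree (pushO f))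

/-- Separability of the extension of function fields. -/
def Sep : Prop :=
  letI := (genMap f e).toAlgebra
  Algebra.IsSeparable Y.functionField X.functionField

/-- The stalk of the trace is the trace of the function fields. -/
theorem germ_trAt (hsep : Sep f e) {W : Y.Opens} (hη : genericPoint Y ∈ W) (c : Sec (alg f) W) :
    letI := (genMap f e).toAlgebra
    Y.presheaf.germ W (genericPoint Y) hη (trAt hA c) =
      Algebra.trace Y.functionField X.functionField
        (X.presheaf.germ (f ⁻¹ᵁ W) (genericPoint X) (genericPoint_mem_preimage f e hη) c) := by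
  obtain ⟨V, hηV, hVW, hV, hf⟩ := exists_affine_hasFrame hA hη
  have hη' := genericPoint_mem_preimage f e hηV
  haveI : Nonempty V := ⟨⟨_, hηV⟩⟩
  haveI : Nonempty (f ⁻¹ᵁ V : X.Opens) := ⟨⟨_, hη'⟩⟩
  haveI : IsDomain (Sec (alg f) V) := inferInstanceAs (IsDomain Γ(X, f ⁻¹ᵁ V))
  haveI := hf.free.1
  haveI := hf.free.2
  letI algK := (genMap f e).toAlgebra
  haveI : IsFractionRing Γ(Y, V) Y.functionField := functionField_isFractionRing_of_isAffineOpen Y V hV
  letI algBL : Algebra (Sec (alg f) V) X.functionField :=
    (inferInstance : Algebra Γ(X, f ⁻¹ᵁ V) X.functionField)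
  haveI : IsFractionRing (Sec (alg f) V) X.functionField :=
    functionField_isFractionRing_of_isAffineOpen X _ (hV.preimage f)
  letI : Algebra Γ(Y, V) X.functionField :=
    ((algebraMap (Sec (alg f) V) X.functionField).comp (algebraMap Γ(Y, V) (Sec (alg f) V))).toAlgebra
  haveI : IsScalarTower Γ(Y, V) (Sec (alg f) V) X.functionField := IsScalarTower.of_algebraMap_eq' rfl
  haveI : IsScalarTower Γ(Y, V) Y.functionField X.functionField :=
    IsScalarTower.of_algebraMap_eq fun r => (genMap_germ f e V hηV hη' r).symm
  haveI : IsLocalization (Algebra.algebraMapSubmonoid (Sec (alg f) V) Γ(Y, V)⁰) X.functionField := by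
    haveI : FaithfulSMul Γ(Y, V) (Sec (alg f) V) :=
      (faithfulSMul_iff_algebraMap_injective _ _).mpr (app_injective f e hηV)
    haveI : Algebra.IsIntegral Γ(Y, V) (Sec (alg f) V) := Algebra.IsIntegral.of_finite _ _
    haveI : Algebra.IsAlgebraic Γ(Y, V) (Sec (alg f) V) := Algebra.IsIntegral.isAlgebraic
    infer_instance
  have h1 : Y.presheaf.germ W (genericPoint Y) hη (trAt hA c) =
      Y.presheaf.germ V (genericPoint Y) hηV (resO hVW (trAt hA c)) :=
    (TopCat.Presheaf.germ_res_apply Y.presheaf (homOfLE hVW) _ hηV _).symm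
  rw [h1, isTr_trAt hA c V hVW hf]
  have h2 : X.presheaf.germ (f ⁻¹ᵁ W) (genericPoint X) (genericPoint_mem_preimage f e hη) c =
      X.presheaf.germ (f ⁻¹ᵁ V) (genericPoint X) hη' (FinCov71.res (alg f) hVW c) :=
    (TopCat.Presheaf.germ_res_apply X.presheaf (homOfLE (f.preimage_mono hVW)) _ hη' _).symm
  rw [h2]
  exact (Algebra.trace_localization Γ(Y, V) Γ(Y, V)⁰ (Rₘ := Y.functionField) (Sₘ := X.functionField)
    (FinCov71.res (alg f) hVW c)).symm

variable {f} in
lemma res_self {V : Y.Opens} (a : Γ(pushO f, V)) : QCoh.res (pushO f) (le_refl V) a = a := by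
  simp [QCoh.res]

/-- The pairing on sections over an affine open. -/
theorem sec_phi {V : Y.Opens} (a : Γ(pushO f, V)) (b : Γ(pushO f, V)) :
    HomShQC.sec (pushO f) (Coh.structureModule Y) ((phi f hA).app V a) b =
      trAt hA (ofMod (alg f) a * ofMod (alg f) b) := by
  refine HomShQC.sec_ext _ fun y hy => ?_
  rw [HomShQC.germM_sec _ _ _ b ⟨y, hy⟩]
  refine (Curry.hom_germ (pairing f hA) (res_pairing f hA) a ⟨y, hy⟩ V le_rfl hy b).trans ?_
  refine congrArg (germM (Coh.structureModule Y) V y hy ·) ?_
  rw [res_self, pairing_apply]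

variable {k : Type u} [Field k]

set_option maxHeartbeats 1600000 in
/-- On an affine open the cokernel of the trace pairing has the dimension of the quotient by the different. -/
theorem finrank_coker_sections (hsep : Sep f e) [IsLocallyNoetherian X] [IsLocallyNoetherian Y] {V : Y.Opens}
    (hV : IsAffineOpen V) [Nonempty V] [IsDomain (Sec (alg f) V)]
    [IsDedekindDomain Γ(Y, V)] [IsDedekindDomain (Sec (alg f) V)]
    [Algebra k Γ(Y, V)] [Algebra k (Sec (alg f) V)] [IsScalarTower k Γ(Y, V) (Sec (alg f) V)]
    (hfin : ∀ P : Ideal (Sec (alg f) V), P.IsMaximal → Module.Finite k (Sec (alg f) V ⧸ P))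
    [Module.Finite Γ(Y, V) (Sec (alg f) V)] [Module.IsTorsionFree Γ(Y, V) (Sec (alg f) V)]
    [Algebra.IsSeparable (FractionRing Γ(Y, V)) (FractionRing (Sec (alg f) V))] :
    letI : Module k Γ(cokernel (phi f hA), V) := Module.compHom _ (algebraMap k Γ(Y, V))
    Module.finrank k Γ(cokernel (phi f hA), V) =
      Module.finrank k (Sec (alg f) V ⧸ differentIdeal Γ(Y, V) (Sec (alg f) V)) := by
  letI modk : Module k Γ(cokernel (phi f hA), V) := Module.compHom _ (algebraMap k Γ(Y, V))
  rw [← finrank_coker_traceToDual (k := k) (A := Γ(Y, V)) (B := Sec (alg f) V) hfin]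
  haveI := mono_phi f hA e hsep
  have hcoh : Coh.IsCoh (pushO f) := isCoh_pushO f
  haveI := hcoh.1
  haveI : (RefHull.dual (pushO f)).IsQuasicoherent :=
    HomShQC.isQuasicoherent_homSh _ _ (HomShQC.isFP_of_isCoh _ hcoh) HomShQC.isCoh_structureModule.1
  -- the trace of a product is the integral trace
  have htr : ∀ a : Sec (alg f) V, trAt hA a = Algebra.intTrace Γ(Y, V) (Sec (alg f) V) a := by
    intro a
    have hηV : genericPoint Y ∈ V := genericPoint_mem_of_mem (Classical.arbitrary V).2
    have hη' := genericPoint_mem_preimage f e hηV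
    haveI : Nonempty (f ⁻¹ᵁ V : X.Opens) := ⟨⟨_, hη'⟩⟩
    letI algK := (genMap f e).toAlgebra
    haveI : Algebra.IsSeparable Y.functionField X.functionField := hsep
    haveI : IsFractionRing Γ(Y, V) Y.functionField := functionField_isFractionRing_of_isAffineOpen Y V hV
    letI algBL : Algebra (Sec (alg f) V) X.functionField :=
      (inferInstance : Algebra Γ(X, f ⁻¹ᵁ V) X.functionField)
    haveI : IsFractionRing (Sec (alg f) V) X.functionField :=
      functionField_isFractionRing_of_isAffineOpen X _ (hV.preimage f)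
    letI : Algebra Γ(Y, V) X.functionField :=
      ((algebraMap (Sec (alg f) V) X.functionField).comp (algebraMap Γ(Y, V) (Sec (alg f) V))).toAlgebra
    haveI : IsScalarTower Γ(Y, V) (Sec (alg f) V) X.functionField := IsScalarTower.of_algebraMap_eq' rfl
    haveI : IsScalarTower Γ(Y, V) Y.functionField X.functionField :=
      IsScalarTower.of_algebraMap_eq fun r => (genMap_germ f e V hηV hη' r).symm
    haveI : IsLocalization (Algebra.algebraMapSubmonoid (Sec (alg f) V) Γ(Y, V)⁰) X.functionField :=
      IsIntegralClosure.isLocalization_of_isSeparable Γ(Y, V) Y.functionField X.functionField (Sec (alg f) V)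
    haveI : FiniteDimensional Y.functionField X.functionField :=
      .of_isLocalization Γ(Y, V) (Sec (alg f) V) Γ(Y, V)⁰
    apply IsFractionRing.injective Γ(Y, V) Y.functionField
    rw [Algebra.algebraMap_intTrace (L := X.functionField)]
    exact germ_trAt f e hA hsep hηV a
  let sE := HomShQC.secEquiv (pushO f) (Coh.structureModule Y) hV
  let toHom : Module.Dual Γ(Y, V) (Sec (alg f) V) →ₗ[Γ(Y, V)] (Γ(pushO f, V) →ₗ[Γ(Y, V)] Γ(Coh.structureModule Y, V)) :=
    { toFun := fun φ => { toFun := fun m => φ (ofMod (alg f) m)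
                          map_add' := fun a b => φ.map_add _ _
                          map_smul' := fun r a => φ.map_smul r _ }
      map_add' := fun φ ψ => rfl
      map_smul' := fun r φ => rfl }
  let π : Γ(RefHull.dual (pushO f), V) →ₗ[Γ(Y, V)] Γ(cokernel (phi f hA), V) :=
    ((cokernel.π (phi f hA)).val.app (op V)).hom
  let Ψ : Module.Dual Γ(Y, V) (Sec (alg f) V) →ₗ[Γ(Y, V)] Γ(cokernel (phi f hA), V) :=
    π ∘ₗ sE.symm.toLinearMap ∘ₗ toHom
  have hsurj : Function.Surjective Ψ := by
    intro t
    obtain ⟨g, rfl⟩ := QCoh.app_surjective_of_epi (cokernel.π (phi f hA)) hV t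
    refine ⟨{ toFun := fun b => sE g (toMod (alg f) b)
              map_add' := fun a b => (sE g).map_add _ _
              map_smul' := fun r a => (sE g).map_smul r _ }, ?_⟩
    exact congrArg π (sE.symm_apply_apply g)
  have hphi : ∀ c : Sec (alg f) V, toHom (traceToDual Γ(Y, V) (Sec (alg f) V) c) =
      sE ((phi f hA).app V (toMod (alg f) c)) := fun c => LinearMap.ext fun b => by
    refine Eq.trans ?_ (sec_phi f hA (toMod (alg f) c) b).symm
    exact (htr _).symm
  have htoHom : Function.Injective toHom := fun φ ψ h =>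
    LinearMap.ext fun b => LinearMap.congr_fun h (toMod (alg f) b)
  have hker : LinearMap.ker Ψ = LinearMap.range (traceToDual Γ(Y, V) (Sec (alg f) V)) := by
    ext φ
    constructor
    · intro h
      let S := ShortComplex.mk (phi f hA) (cokernel.π (phi f hA)) (cokernel.condition _)
      have h0 : π (sE.symm (toHom φ)) = 0 := h
      obtain ⟨a, ha⟩ := QCoh.exists_app_eq_of_app_eq_zero S (ShortComplex.exact_cokernel _) V
        (sE.symm (toHom φ)) h0
      refine ⟨ofMod (alg f) a, htoHom ((hphi _).trans ?_)⟩
      exact (congrArg sE ha).trans (sE.apply_symm_apply _)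
    · rintro ⟨c, rfl⟩
      rw [LinearMap.mem_ker]
      show π (sE.symm (toHom _)) = 0
      rw [hphi, LinearEquiv.symm_apply_apply]
      exact QCoh.app_app_eq_zero (ShortComplex.mk (phi f hA) (cokernel.π (phi f hA)) (cokernel.condition _)) V _
  let E := ((Submodule.quotEquivOfEq _ _ hker).symm.trans (Ψ.quotKerEquivOfSurjective hsurj))
  refine (LinearEquiv.finrank_eq ?_).symm
  refine { (Submodule.Quotient.restrictScalarsEquiv k _).toAddEquiv.trans E.toAddEquiv with map_smul' := ?_ }
  intro c x
  show E (Submodule.Quotient.restrictScalarsEquiv k _ (c • x)) =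
    algebraMap k Γ(Y, V) c • E (Submodule.Quotient.restrictScalarsEquiv k _ x)
  rw [map_smul, ← algebraMap_smul Γ(Y, V) c (Submodule.Quotient.restrictScalarsEquiv k _ x), map_smul]

end Groth.Agent.HurwitzLib
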