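import Mathlib.RingTheory.DedekindDomain.Ideal.Lemmas
import Mathlib.RingTheory.DedekindDomain.Different
import Mathlib.LinearAlgebra.Dimension.Finrank

/-!
# Dimensions of quotients of a Dedekind domain over a field
-/

set_option autoImplicit false
set_option linter.style.haveILetI false

open UniqueFactorizationMonoid

namespace Groth.Agent.HurwitzLib

variable {k B : Type*} [Field k] [CommRing B] [IsDedekindDomain B] [Algebra k B]

/-- Multiplying by a maximal ideal adds the dimension of its residue field. -/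
lemma finite_and_finrank_mul (I P : Ideal B) [P.IsMaximal] (hI : I ≠ ⊥) (_hP : P ≠ ⊥)
    [Module.Finite k (B ⧸ I)] [Module.Finite k (B ⧸ P)] :
    Module.Finite k (B ⧸ I * P) ∧
      Module.finrank k (B ⧸ I * P) = Module.finrank k (B ⧸ I) + Module.finrank k (B ⧸ P) := by
  have hlt : I * P < I := by
    refine lt_of_le_of_ne Ideal.mul_le_left fun e => ?_
    exact Ideal.IsMaximal.ne_top ‹_› (mul_left_cancel₀ hI (e.trans (Ideal.mul_top I).symm))
  obtain ⟨a, haI, haP⟩ := SetLike.exists_of_lt hlt
  have hgen : Ideal.span {a} ⊔ I * P = I := by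
    have hle : Ideal.span {a} ⊔ I * P ≤ I := sup_le (by rwa [Ideal.span_le, Set.singleton_subset_iff]) hlt.le
    obtain ⟨K, hK⟩ := Ideal.dvd_iff_le.2 hle
    have hPK : P ≤ K := by
      have h1 : I * P ≤ I * K := hK ▸ le_sup_right
      rw [← Ideal.dvd_iff_le] at h1 ⊢
      exact (mul_dvd_mul_iff_left hI).1 h1
    have hne : K ≠ P := fun e => haP (by
      rw [← e, ← hK]; exact Ideal.mem_sup_left (Ideal.mem_span_singleton_self a))
    have htop : K = ⊤ := by_contra fun e => hne ((‹P.IsMaximal›).eq_of_le e hPK).symm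
    rw [hK, htop, Ideal.mul_top]
  let f : B →ₗ[k] B ⧸ I * P :=
    ((Submodule.mkQ (I * P : Ideal B)).restrictScalars k) ∘ₗ LinearMap.mulLeft k a
  have hker : ∀ b, f b = 0 ↔ b ∈ P := by
    intro b
    have hfb : f b = 0 ↔ a * b ∈ I * P := Submodule.Quotient.mk_eq_zero _
    rw [hfb]
    refine ⟨fun h => ?_, fun h => Ideal.mul_mem_mul haI h⟩
    by_contra hb
    obtain ⟨c, p, hp, hcp⟩ := (‹P.IsMaximal›).exists_inv hb
    apply haP
    have : a = c * (a * b) + a * p := by linear_combination -a * hcp
    rw [this]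
    exact add_mem (Ideal.mul_mem_left _ _ h) (Ideal.mul_mem_mul haI hp)
  let g : B ⧸ I * P →ₗ[k] B ⧸ I :=
    (Submodule.factor hlt.le : B ⧸ I * P →ₗ[B] B ⧸ I).restrictScalars k
  let f' : B ⧸ P →ₗ[k] B ⧸ I * P :=
    ((P.restrictScalars k).liftQ f fun b hb => (hker b).2 hb) ∘ₗ
      (Submodule.Quotient.restrictScalarsEquiv k P).symm.toLinearMap
  have hf' : ∀ b : B, f' (Ideal.Quotient.mk P b) = f b := fun b => rfl
  have hinj : Function.Injective f' := by
    rw [injective_iff_map_eq_zero]
    intro x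
    obtain ⟨b, rfl⟩ := Ideal.Quotient.mk_surjective x
    intro h
    exact Ideal.Quotient.eq_zero_iff_mem.2 ((hker b).1 ((hf' b).symm.trans h))
  have hg : Function.Surjective g := Submodule.factor_surjective hlt.le
  have hex : Function.Exact f' g := by
    intro x
    obtain ⟨c, rfl⟩ := Ideal.Quotient.mk_surjective x
    have hgc : g (Ideal.Quotient.mk _ c) = Ideal.Quotient.mk I c := rfl
    rw [hgc, Ideal.Quotient.eq_zero_iff_mem]
    constructor
    · intro hc
      rw [← hgen, Submodule.mem_sup] at hc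
      obtain ⟨y, hy, z, hz, rfl⟩ := hc
      obtain ⟨b, rfl⟩ := Ideal.mem_span_singleton'.1 hy
      refine ⟨Ideal.Quotient.mk P b, (hf' b).trans ?_⟩
      refine (Submodule.Quotient.eq _).2 ?_
      show a * b - (b * a + z) ∈ I * P
      rw [show a * b - (b * a + z) = -z by ring]
      exact neg_mem hz
    · rintro ⟨y, hy⟩
      obtain ⟨b, rfl⟩ := Ideal.Quotient.mk_surjective y
      have h1 : a * b - c ∈ I * P := (Submodule.Quotient.eq _).1 ((hf' b).symm.trans hy)
      rw [show c = a * b - (a * b - c) by ring]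
      exact sub_mem (Ideal.mul_mem_right _ _ haI) (hlt.le h1)
  haveI : Module.Finite k (B ⧸ I * P) := by
    haveI : Module.Finite k (LinearMap.ker g) := by
      rw [hex.linearMap_ker_eq]; infer_instance
    haveI : Module.Finite k ((B ⧸ I * P) ⧸ LinearMap.ker g) :=
      Module.Finite.equiv (g.quotKerEquivOfSurjective hg).symm
    exact Module.Finite.of_submodule_quotient (LinearMap.ker g)
  refine ⟨inferInstance, ?_⟩
  rw [← g.finrank_range_add_finrank_ker, LinearMap.range_eq_top.2 hg, finrank_top, hex.linearMap_ker_eq,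
    LinearMap.finrank_range_of_inj hinj]

variable (hfin : ∀ P : Ideal B, P.IsMaximal → Module.Finite k (B ⧸ P))

include hfin in
/-- The dimension of `B/I` is the sum over the prime factors of `I`. -/
theorem finite_and_finrank_quot {I : Ideal B} (hI : I ≠ ⊥) :
    Module.Finite k (B ⧸ I) ∧
      Module.finrank k (B ⧸ I) = ((normalizedFactors I).map fun P => Module.finrank k (B ⧸ P)).sum := by
  induction I using UniqueFactorizationMonoid.induction_on_prime with
  | h₁ => exact absurd rfl hI
  | h₂ I hu =>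
    obtain rfl := Ideal.isUnit_iff.1 hu
    haveI : Subsingleton (B ⧸ (⊤ : Ideal B)) := Ideal.Quotient.subsingleton_iff.2 rfl
    refine ⟨inferInstance, ?_⟩
    rw [Module.finrank_zero_of_subsingleton, ← Ideal.one_eq_top, normalizedFactors_one]
    simp
  | h₃ I P hI0 hP ih =>
    obtain ⟨h1, h2⟩ := ih hI0
    haveI : P.IsPrime := Ideal.isPrime_of_prime hP
    haveI : P.IsMaximal := Ideal.IsPrime.isMaximal ‹_› hP.ne_zero
    haveI := h1
    haveI := hfin P ‹_›
    obtain ⟨h3, h4⟩ := finite_and_finrank_mul (k := k) I P hI0 hP.ne_zero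
    rw [mul_comm] at h3 h4
    refine ⟨h3, ?_⟩
    rw [h4, h2, normalizedFactors_mul hP.ne_zero hI0, normalizedFactors_irreducible hP.irreducible, normalize_eq,
      Multiset.map_add, Multiset.sum_add]
    simp [add_comm]

omit hfin in
lemma finrank_le_factor {I J : Ideal B} (h : I ≤ J) [Module.Finite k (B ⧸ I)] :
    Module.finrank k (B ⧸ I) = Module.finrank k (B ⧸ J) +
      Module.finrank k ((J.restrictScalars k) ⧸ ((I.restrictScalars k).comap (J.restrictScalars k).subtype)) := by
  let g : B ⧸ I →ₗ[k] B ⧸ J := (Submodule.factor h : B ⧸ I →ₗ[B] B ⧸ J).restrictScalars k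
  have hg : Function.Surjective g := Submodule.factor_surjective h
  rw [← g.finrank_range_add_finrank_ker, LinearMap.range_eq_top.2 hg, finrank_top, Nat.add_left_cancel_iff]
  let f : (J.restrictScalars k) →ₗ[k] B ⧸ I :=
    ((Submodule.mkQ I).restrictScalars k) ∘ₗ (J.restrictScalars k).subtype
  have hk : LinearMap.ker f = (I.restrictScalars k).comap (J.restrictScalars k).subtype := by
    ext x; simp [f, LinearMap.mem_ker, Ideal.Quotient.eq_zero_iff_mem]
  have hr : LinearMap.range f = LinearMap.ker g := by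
    ext x
    obtain ⟨c, rfl⟩ := Submodule.Quotient.mk_surjective _ x
    constructor
    · rintro ⟨⟨y, hy⟩, e⟩
      rw [LinearMap.mem_ker, ← e]
      exact (Submodule.Quotient.mk_eq_zero J).2 hy
    · intro hc
      exact ⟨⟨c, (Submodule.Quotient.mk_eq_zero J).1 hc⟩, rfl⟩
  rw [← hk, ← hr]
  exact (f.quotKerEquivRange.finrank_eq).symm

end Groth.Agent.HurwitzLib
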